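import Mathlib
import Cfsg.Agent.Involutions.PairCount

/-!
# Frobenius' theorem on the number of solutions of `x ^ n = c`

For a finite group `G`, `c : G` with class of size `h`, and `n : ℕ`, the number of `x` with `x ^ n`
conjugate to `c` is a multiple of `gcd (h * n, |G|)`.

* `gcd_dvd_card` : the class form.
* `frobenius_gcd` : `gcd (n, |G|)` divides the number of solutions of `x ^ n = 1`.
* `frobenius_dvd` : if `n` divides `|G|`, then `n` divides the number of solutions of `x ^ n = 1`.
-/

set_option autoImplicit false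

namespace Cfsg.Agent.H542.Frobenius

open Subgroup

universe u

section basic

variable {G : Type u} [Group G]

/-- Summation over conjugacy classes. -/
theorem dvd_card_of_classes [Finite G] (d n : ℕ) (D : G → Prop)
    (hD : ∀ x y, IsConj x y → D x → D y)
    (h : ∀ c, D c → d ∣ Nat.card {x : G // IsConj c (x ^ n)}) :
    d ∣ Nat.card {x : G // D (x ^ n)} := by
  classical
  have : Fintype (ConjClasses G) := Fintype.ofFinite _
  rw [← Nat.card_congr (Equiv.sigmaFiberEquiv
    (fun x : {x : G // D (x ^ n)} => ConjClasses.mk (x.1 ^ n))), Nat.card_sigma]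
  refine Finset.dvd_sum fun k _ => ?_
  by_cases hk : Nonempty {x : {x : G // D (x ^ n)} // ConjClasses.mk (x.1 ^ n) = k}
  · obtain ⟨⟨⟨x0, hx0⟩, rfl⟩⟩ := hk
    have key := h _ hx0
    have e : Nat.card {x : G // IsConj (x0 ^ n) (x ^ n)} =
        Nat.card {x : {x : G // D (x ^ n)} // ConjClasses.mk (x.1 ^ n) =
          ConjClasses.mk (x0 ^ n)} := by
      refine Nat.card_congr ⟨fun x => ⟨⟨x.1, hD _ _ x.2 hx0⟩, ?_⟩, fun x => ⟨x.1.1, ?_⟩, ?_, ?_⟩
      · exact (ConjClasses.mk_eq_mk_iff_isConj.2 x.2.symm)
      · exact (ConjClasses.mk_eq_mk_iff_isConj.1 x.2).symm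
      · intro x; rfl
      · intro x; rfl
    rwa [e] at key
  · have := not_nonempty_iff.1 hk
    simp

/-- the number of solutions of `x ^ n = y` is the same for conjugate `y` -/
theorem card_eq_of_isConj (n : ℕ) {c y : G} (h : IsConj c y) :
    Nat.card {x : G // x ^ n = y} = Nat.card {x : G // x ^ n = c} := by
  obtain ⟨g, hg⟩ := isConj_iff.1 h
  refine Nat.card_congr ⟨fun x => ⟨g⁻¹ * x.1 * g, ?_⟩, fun x => ⟨g * x.1 * g⁻¹, ?_⟩, ?_, ?_⟩
  · have := conj_pow (i := n) (a := g⁻¹) (b := x.1)
    rw [inv_inv] at this
    rw [this, x.2, ← hg]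
    group
  · rw [conj_pow, x.2, hg]
  · intro x; apply Subtype.ext; simp [mul_assoc]
  · intro x; apply Subtype.ext; simp [mul_assoc]

theorem card_class_mul [Finite G] (n : ℕ) (c : G) :
    Nat.card {x : G // IsConj c (x ^ n)} =
      Nat.card {y : G // IsConj c y} * Nat.card {x : G // x ^ n = c} := by
  classical
  have : Fintype {y : G // IsConj c y} := Fintype.ofFinite _
  rw [← Nat.card_congr (Equiv.sigmaFiberEquiv
    (fun x : {x : G // IsConj c (x ^ n)} => (⟨x.1 ^ n, x.2⟩ : {y : G // IsConj c y}))),
    Nat.card_sigma]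
  rw [Finset.sum_congr rfl (g := fun _ => Nat.card {x : G // x ^ n = c})]
  · rw [Finset.sum_const, Finset.card_univ, ← Nat.card_eq_fintype_card, smul_eq_mul]
  · intro y _
    rw [← card_eq_of_isConj n y.2]
    refine Nat.card_congr ⟨fun x => ⟨x.1.1, congrArg Subtype.val x.2⟩,
      fun x => ⟨⟨x.1, by rw [x.2]; exact y.2⟩, Subtype.ext x.2⟩, ?_, ?_⟩
    · intro x; rfl
    · intro x; rfl

theorem card_centralizer_solutions (n : ℕ) (c : G) :
    Nat.card {x : G // x ^ n = c} =
      Nat.card {x : centralizer ({c} : Set G) //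
        x ^ n = ⟨c, mem_centralizer_singleton_iff.2 rfl⟩} := by
  refine Nat.card_congr ⟨fun x => ⟨⟨x.1, ?_⟩, ?_⟩, fun x => ⟨x.1.1, congrArg Subtype.val x.2⟩,
    ?_, ?_⟩
  · rw [mem_centralizer_singleton_iff]
    have := ((Commute.refl x.1).pow_right n).eq
    rwa [x.2] at this
  · apply Subtype.ext; exact x.2
  · intro x; rfl
  · intro x; rfl

/-- The class of a central element. -/
theorem card_class_of_central {c : G} (hc : ∀ g : G, g * c = c * g) :
    Nat.card {y : G // IsConj c y} = 1 := by
  rw [Nat.card_eq_one_iff_unique]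
  refine ⟨⟨fun a b => ?_⟩, ⟨⟨c, IsConj.refl c⟩⟩⟩
  have : ∀ y : G, IsConj c y → y = c := by
    intro y hy
    obtain ⟨g, hg⟩ := isConj_iff.1 hy
    rw [← hg, hc g]; group
  exact Subtype.ext ((this _ a.2).trans (this _ b.2).symm)

/-- number of solutions of `z ^ n = 1` in a cyclic group -/
theorem card_pow_eq_one_of_isCyclic (Z : Type u) [Group Z] [hZ : IsCyclic Z] [Finite Z] (n : ℕ) :
    Nat.card {z : Z // z ^ n = 1} = (Nat.card Z).gcd n := by
  let _ : CommGroup Z := IsCyclic.commGroup
  rw [← IsCyclic.card_powMonoidHom_ker (G := Z) n]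
  rfl

/-- Central `c` of order divisible by `p`: the number of solutions of `x ^ (p ^ e) = c` is a
multiple of `p ^ e`. (No centrality is needed.) -/
theorem pow_dvd_card_of_dvd_orderOf [Finite G] {p : ℕ} (hp : p.Prime) (e : ℕ) {c : G}
    (hc : p ∣ orderOf c) : p ^ e ∣ Nat.card {x : G // x ^ (p ^ e) = c} := by
  classical
  have : Fintype (Subgroup G) := Fintype.ofFinite _
  set n := p ^ e with hn
  have hn0 : 0 < n := pow_pos hp.pos e
  -- order of a solution
  have hord : ∀ x : G, x ^ n = c → orderOf x = n * orderOf c := by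
    intro x hx
    have h1 : orderOf c = orderOf x / (orderOf x).gcd n := by rw [← hx, orderOf_pow]
    have h2 : (orderOf x).gcd n ∣ n := Nat.gcd_dvd_right _ _
    obtain ⟨k, hk, hk2⟩ := (Nat.dvd_prime_pow hp).1 (hn ▸ h2)
    have h3 : (orderOf x).gcd n * orderOf c = orderOf x := by
      rw [h1]; exact Nat.mul_div_cancel' (Nat.gcd_dvd_left _ _)
    -- p^(k+1) divides orderOf x
    have h4 : p ^ (k + 1) ∣ orderOf x := by
      rw [← h3, hk2, pow_succ]; exact Nat.mul_dvd_mul_left _ hc
    have h5 : k = e := by
      by_contra hne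
      have hlt : k + 1 ≤ e := by omega
      have h6 : p ^ (k + 1) ∣ (orderOf x).gcd n :=
        Nat.dvd_gcd h4 (hn ▸ pow_dvd_pow p hlt)
      rw [hk2] at h6
      have := (Nat.pow_dvd_pow_iff_le_right hp.one_lt).1 h6
      omega
    rw [← h3, hk2, h5]
  rw [← Nat.card_congr (Equiv.sigmaFiberEquiv
    (fun x : {x : G // x ^ n = c} => zpowers x.1)), Nat.card_sigma]
  refine Finset.dvd_sum fun Z _ => ?_
  by_cases hk : Nonempty {x : {x : G // x ^ n = c} // zpowers x.1 = Z}
  · obtain ⟨⟨⟨x0, hx0⟩, rfl⟩⟩ := hk
    have hcardZ : Nat.card (zpowers x0) = n * orderOf c := by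
      rw [Nat.card_zpowers, hord x0 hx0]
    have e1 : Nat.card {x : {x : G // x ^ n = c} // zpowers x.1 = zpowers x0} =
        Nat.card {z : zpowers x0 // z ^ n = 1} := by
      refine Nat.card_congr ⟨fun x => ⟨⟨x.1.1 * x0⁻¹, ?_⟩, ?_⟩,
        fun z => ⟨⟨z.1.1 * x0, ?_⟩, ?_⟩, ?_, ?_⟩
      · refine mul_mem ?_ (inv_mem (mem_zpowers x0))
        have := mem_zpowers x.1.1
        rwa [show zpowers x.1.1 = zpowers x0 from x.2] at this
      · apply Subtype.ext
        have hx1 : x.1.1 ∈ zpowers x0 := by
          have := mem_zpowers x.1.1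
          rwa [show zpowers x.1.1 = zpowers x0 from x.2] at this
        obtain ⟨j, hj⟩ := mem_zpowers_iff.1 hx1
        have hcomm : Commute x.1.1 x0⁻¹ := by
          rw [← hj]; exact ((Commute.refl x0).zpow_left j).inv_right
        change (x.1.1 * x0⁻¹) ^ n = 1
        rw [hcomm.mul_pow, x.1.2, inv_pow, hx0, mul_inv_cancel]
      · obtain ⟨j, hj⟩ := mem_zpowers_iff.1 z.1.2
        have hcomm : Commute z.1.1 x0 := by
          rw [← hj]; exact (Commute.refl x0).zpow_left j
        have hz := congrArg Subtype.val z.2
        change z.1.1 ^ n = 1 at hz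
        rw [hcomm.mul_pow, hz, hx0, one_mul]
      · obtain ⟨j, hj⟩ := mem_zpowers_iff.1 z.1.2
        have hcomm : Commute z.1.1 x0 := by
          rw [← hj]; exact (Commute.refl x0).zpow_left j
        have hz := congrArg Subtype.val z.2
        change z.1.1 ^ n = 1 at hz
        have hsol : (z.1.1 * x0) ^ n = c := by rw [hcomm.mul_pow, hz, hx0, one_mul]
        have hle : zpowers (z.1.1 * x0) ≤ zpowers x0 := by
          rw [zpowers_le]; exact mul_mem z.1.2 (mem_zpowers x0)
        apply Subgroup.eq_of_le_of_card_ge hle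
        rw [Nat.card_zpowers, Nat.card_zpowers, hord _ hsol, hord x0 hx0]
      · intro x; apply Subtype.ext; apply Subtype.ext; simp
      · intro z; apply Subtype.ext; apply Subtype.ext; simp
    rw [e1, card_pow_eq_one_of_isCyclic, hcardZ, Nat.gcd_eq_right (dvd_mul_right _ _)]
  · have := not_nonempty_iff.1 hk
    simp

/-- Multiplying by a central `n`-th root. -/
theorem card_eq_of_central_root (n : ℕ) {c d : G} (hd : ∀ g : G, g * d = d * g)
    (hdn : d ^ n = c) : Nat.card {x : G // x ^ n = c} = Nat.card {x : G // x ^ n = 1} := by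
  refine Nat.card_congr ⟨fun x => ⟨x.1 * d⁻¹, ?_⟩, fun x => ⟨x.1 * d, ?_⟩, ?_, ?_⟩
  · have hcomm : Commute x.1 d⁻¹ := (show Commute x.1 d from hd x.1).inv_right
    rw [hcomm.mul_pow, x.2, inv_pow, hdn, mul_inv_cancel]
  · have hcomm : Commute x.1 d := hd x.1
    rw [hcomm.mul_pow, x.2, one_mul, hdn]
  · intro x; apply Subtype.ext; simp
  · intro x; apply Subtype.ext; simp

/-- The central elements of order prime to `p`. -/
def centralPrime (G : Type u) [Group G] [Finite G] (p : ℕ) : Subgroup G where
  carrier := {z | z ∈ center G ∧ (orderOf z).Coprime p}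
  mul_mem' := by
    rintro a b ⟨ha, ha'⟩ ⟨hb, hb'⟩
    refine ⟨mul_mem ha hb, ?_⟩
    have hcomm : Commute a b := (mem_center_iff.1 hb a)
    exact Nat.Coprime.coprime_dvd_left (hcomm.orderOf_mul_dvd_mul_orderOf)
      (Nat.Coprime.mul_left ha' hb')
  one_mem' := ⟨one_mem _, by simp⟩
  inv_mem' := by
    rintro a ⟨ha, ha'⟩
    exact ⟨inv_mem ha, by rwa [orderOf_inv]⟩

theorem card_centralPrime_coprime [Finite G] {p : ℕ} (hp : p.Prime) :
    (Nat.card (centralPrime G p)).Coprime p := by
  have : Fact p.Prime := ⟨hp⟩
  rw [Nat.coprime_comm, Nat.Prime.coprime_iff_not_dvd hp]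
  intro hdvd
  obtain ⟨z, hz⟩ := exists_prime_orderOf_dvd_card' p hdvd
  have h1 : (orderOf (z : G)).Coprime p := z.2.2
  rw [Subgroup.orderOf_coe, hz] at h1
  exact hp.one_lt.ne' ((Nat.coprime_self p).1 h1)

end basic

/-- **Frobenius' theorem**, class form, by induction on the order. -/
theorem gcd_dvd_card_aux (N : ℕ) : ∀ (G : Type u) [Group G] [Finite G], Nat.card G ≤ N →
    ∀ (n : ℕ) (c : G), Nat.gcd (Nat.card {y : G // IsConj c y} * n) (Nat.card G) ∣
      Nat.card {x : G // IsConj c (x ^ n)} := by
  induction N with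
  | zero =>
    intro G _ _ hG
    have := Nat.card_pos (α := G)
    omega
  | succ N ih =>
    intro G _ _ hG n
    -- the non-central case
    have hnc : ∀ (n : ℕ) (c : G), ¬ (∀ g : G, g * c = c * g) →
        Nat.gcd (Nat.card {y : G // IsConj c y} * n) (Nat.card G) ∣
          Nat.card {x : G // IsConj c (x ^ n)} := by
      intro n c hc
      set C := centralizer ({c} : Set G) with hC
      have hmul := Involutions.PairCount.card_class_mul_card_centralizer c
      have hlt : Nat.card C < Nat.card G := by
        refine lt_of_le_of_ne (Subgroup.card_le_card_group C) ?_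
        intro heq
        have htop : C = ⊤ := Subgroup.eq_top_of_card_eq C heq
        apply hc
        intro g
        have : g ∈ C := by rw [htop]; trivial
        exact mem_centralizer_singleton_iff.1 this
      have h1 := ih C (by omega) n ⟨c, mem_centralizer_singleton_iff.2 rfl⟩
      rw [card_class_mul, card_class_of_central, one_mul, one_mul,
        ← card_centralizer_solutions] at h1
      · rw [card_class_mul, ← hmul, Nat.gcd_mul_left]
        exact Nat.mul_dvd_mul_left _ h1
      · intro g
        apply Subtype.ext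
        exact mem_centralizer_singleton_iff.1 g.2
    -- all classes
    induction n using Nat.recOnPosPrimePosCoprime with
    | zero =>
      intro c
      rw [mul_zero, Nat.gcd_zero_left]
      by_cases hc : c = 1
      · subst hc
        have : Nat.card {x : G // IsConj 1 (x ^ 0)} = Nat.card G := by
          refine Nat.card_congr ⟨fun x => x.1, fun x => ⟨x, by simp⟩, ?_, ?_⟩
          · intro x; rfl
          · intro x; rfl
        rw [this]
      · have : IsEmpty {x : G // IsConj c (x ^ 0)} := by
          refine ⟨fun x => hc ?_⟩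
          have := x.2
          rw [pow_zero] at this
          exact isConj_one_left.1 this
        have h0 : Nat.card {x : G // IsConj c (x ^ 0)} = 0 := Nat.card_of_isEmpty
        rw [h0]
        exact dvd_zero _
    | one =>
      intro c
      rw [card_class_mul]
      simp only [mul_one, pow_one]
      refine dvd_trans (Nat.gcd_dvd_left _ _) (dvd_mul_right _ _)
    | coprime a b ha hb hab iha ihb =>
      intro c
      by_cases hc : ∀ g : G, g * c = c * g
      · rw [card_class_mul, card_class_of_central hc, one_mul, one_mul]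
        have hgen : ∀ (a b : ℕ), (∀ c : G, Nat.gcd (Nat.card {y : G // IsConj c y} * a)
            (Nat.card G) ∣ Nat.card {x : G // IsConj c (x ^ a)}) →
            Nat.gcd a (Nat.card G) ∣ Nat.card {x : G // x ^ (a * b) = c} := by
          intro a b h
          have h2 := dvd_card_of_classes (Nat.gcd a (Nat.card G)) a (fun y : G => y ^ b = c)
            (by
              intro x y hxy hx
              obtain ⟨g, hg⟩ := isConj_iff.1 hxy
              rw [← hg, conj_pow, hx, hc g]; group)
            (fun y _ => dvd_trans (Nat.gcd_dvd_gcd_of_dvd_left _ (dvd_mul_left _ _)) (h y))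
          simpa only [← pow_mul] using h2
        have h1 := hgen a b iha
        have h2 := hgen b a ihb
        rw [mul_comm b a] at h2
        rw [Nat.gcd_comm, Nat.Coprime.gcd_mul (Nat.card G) hab, Nat.gcd_comm (Nat.card G) a,
          Nat.gcd_comm (Nat.card G) b]
        exact Nat.Coprime.mul_dvd_of_dvd_of_dvd
          (Nat.Coprime.coprime_dvd_left (Nat.gcd_dvd_left _ _)
            (Nat.Coprime.coprime_dvd_right (Nat.gcd_dvd_left _ _) hab)) h1 h2
      · exact hnc _ c hc
    | prime_pow p e hp he =>
      intro c
      by_cases hc : ∀ g : G, g * c = c * g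
      · rw [card_class_mul, card_class_of_central hc, one_mul, one_mul]
        by_cases hpc : p ∣ orderOf c
        · exact dvd_trans (Nat.gcd_dvd_left _ _) (pow_dvd_card_of_dvd_orderOf hp e hpc)
        · -- reduce to `c = 1`
          have hroot : ∀ c : G, (∀ g : G, g * c = c * g) → (orderOf c).Coprime p →
              Nat.card {x : G // x ^ (p ^ e) = c} = Nat.card {x : G // x ^ (p ^ e) = 1} := by
            intro c hc hcp
            obtain ⟨m, hm⟩ := exists_pow_eq_self_of_coprime
              (x := c) (n := p ^ e) (Nat.Coprime.pow_right e hcp).symm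
            apply card_eq_of_central_root (p ^ e) (d := c ^ m)
            · intro g
              exact ((show Commute g c from hc g).pow_right m).eq
            · rw [← pow_mul, mul_comm, pow_mul]; exact hm
          set d := Nat.gcd (p ^ e) (Nat.card G) with hd
          have hcop : (orderOf c).Coprime p :=
            ((Nat.Prime.coprime_iff_not_dvd hp).2 hpc).symm
          rw [hroot c hc hcop]
          -- the partition of `G`
          have h1 : d ∣ Nat.card {x : G // x ^ (p ^ e) ∉ centralPrime G p} := by
            apply dvd_card_of_classes d (p ^ e) (fun y => y ∉ centralPrime G p)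
            · rintro x y hxy hx ⟨hy1, hy2⟩
              obtain ⟨g, hg⟩ := isConj_iff.1 hxy.symm
              apply hx
              have : x = y := by
                rw [← hg, mem_center_iff.1 hy1 g]; group
              rw [this]
              exact ⟨hy1, hy2⟩
            · intro y hy
              by_cases hyc : ∀ g : G, g * y = y * g
              · have hpy : p ∣ orderOf y := by
                  by_contra hcon
                  exact hy ⟨mem_center_iff.2 hyc, ((Nat.Prime.coprime_iff_not_dvd hp).2 hcon).symm⟩
                rw [card_class_mul, card_class_of_central hyc, one_mul]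
                exact dvd_trans (Nat.gcd_dvd_left _ _) (pow_dvd_card_of_dvd_orderOf hp e hpy)
              · exact dvd_trans (Nat.gcd_dvd_gcd_of_dvd_left _ (dvd_mul_left _ _)) (hnc _ y hyc)
          have h2 : Nat.card {x : G // x ^ (p ^ e) ∈ centralPrime G p} =
              Nat.card (centralPrime G p) * Nat.card {x : G // x ^ (p ^ e) = 1} := by
            classical
            have : Fintype (centralPrime G p) := Fintype.ofFinite _
            rw [← Nat.card_congr (Equiv.sigmaFiberEquiv
              (fun x : {x : G // x ^ (p ^ e) ∈ centralPrime G p} =>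
                (⟨x.1 ^ (p ^ e), x.2⟩ : centralPrime G p))), Nat.card_sigma]
            rw [Finset.sum_congr rfl (g := fun _ => Nat.card {x : G // x ^ (p ^ e) = 1})]
            · rw [Finset.sum_const, Finset.card_univ, ← Nat.card_eq_fintype_card, smul_eq_mul]
            · intro y _
              rw [← hroot y.1 (mem_center_iff.1 y.2.1) y.2.2]
              refine Nat.card_congr ⟨fun x => ⟨x.1.1, congrArg Subtype.val x.2⟩,
                fun x => ⟨⟨x.1, by rw [x.2]; exact y.2⟩, Subtype.ext x.2⟩, ?_, ?_⟩
              · intro x; rfl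
              · intro x; rfl
          have h3 : Nat.card {x : G // x ^ (p ^ e) ∈ centralPrime G p} +
              Nat.card {x : G // x ^ (p ^ e) ∉ centralPrime G p} = Nat.card G := by
            classical
            rw [← Nat.card_congr (Equiv.sumCompl (fun x : G => x ^ (p ^ e) ∈ centralPrime G p)),
              Nat.card_sum]
          have h4 : d ∣ Nat.card {x : G // x ^ (p ^ e) ∈ centralPrime G p} := by
            have h5 : d ∣ Nat.card G := Nat.gcd_dvd_right _ _
            rw [← h3] at h5
            exact (Nat.dvd_add_iff_left h1).2 h5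
          rw [h2] at h4
          refine Nat.Coprime.dvd_of_dvd_mul_left ?_ h4
          refine Nat.Coprime.coprime_dvd_left (Nat.gcd_dvd_left _ _) ?_
          exact (Nat.Coprime.pow_right e (card_centralPrime_coprime hp)).symm
      · exact hnc _ c hc

/-- **Frobenius' theorem**: let `h` be the size of the class of `c`. Then `gcd (h * n, |G|)`
divides the number of `x` with `x ^ n` conjugate to `c`. -/
theorem gcd_dvd_card {G : Type u} [Group G] [Finite G] (c : G) (n : ℕ) :
    Nat.gcd (Nat.card {y : G // IsConj c y} * n) (Nat.card G) ∣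
      Nat.card {x : G // IsConj c (x ^ n)} :=
  gcd_dvd_card_aux (Nat.card G) G le_rfl n c

/-- `gcd (n, |G|)` divides the number of solutions of `x ^ n = 1`. -/
theorem frobenius_gcd {G : Type u} [Group G] [Finite G] (n : ℕ) :
    Nat.gcd n (Nat.card G) ∣ Nat.card {x : G // x ^ n = 1} := by
  have h := gcd_dvd_card (1 : G) n
  rwa [card_class_mul, card_class_of_central (c := (1 : G)) (by simp), one_mul, one_mul] at h

/-- **Frobenius**: if `n` divides `|G|` then `n` divides the number of solutions of `x ^ n = 1`. -/
theorem frobenius_dvd {G : Type u} [Group G] [Finite G] {n : ℕ} (hn : n ∣ Nat.card G) :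
    n ∣ Nat.card {x : G // x ^ n = 1} := by
  have h := frobenius_gcd (G := G) n
  rwa [Nat.gcd_eq_left hn] at h

end Cfsg.Agent.H542.Frobenius
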