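import Cfsg.Agent.H542.NineTools
import Cfsg.Agent.H542.PairTw
import Cfsg.Agent.ChevalleyStructure.TwistedE6G
import Cfsg.Agent.H109.ROrthA

/-!
# `exists_nine_mul` : elements of order divisible by 9 and different from 9 in exceptional groups (helper542, S3456)
-/

set_option autoImplicit false
set_option linter.unusedSectionVars false

namespace Cfsg.Agent.H542.NineExc

open Matrix Cfsg Cfsg.Lie Cfsg.Agent.ChevalleyStructure Cfsg.Agent.ChevalleyStructure.Elts
  Cfsg.Agent.TitsThree.KExcBase Cfsg.Agent.TitsThree.KExcRT Cfsg.Agent.AGraded Cfsg.Agent.H92.ExcSL2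
open Cfsg.Agent.ChevalleyStructure.SL2Hom (up lo)
open Cfsg.Agent.H542.NineTools Cfsg.Agent.H120.SLHom

universe u

section Root

variable {D : ChevalleyDatum} (hD : InList D) {F : Type u} [Field F]

theorem xG_pow (r : ℕ) (n : ℕ) (c : F) : (xG hD r c) ^ n = xG hD r ((n : F) * c) := by
  induction n with
  | zero => rw [pow_zero, Nat.cast_zero, zero_mul, xG_zero]
  | succ n ih => rw [pow_succ, ih, xG_add, Nat.cast_succ, add_mul, one_mul]

theorem orderOf_xG {r : ℕ} (hr : r < D.nroots) (p : ℕ) [hp : Fact p.Prime] [CharP F p] :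
    orderOf (xG hD r (1 : F)) = p := by
  refine orderOf_eq_prime ?_ ?_
  · rw [xG_pow, CharP.cast_eq_zero, zero_mul, xG_zero]
  · intro h
    exact one_ne_zero ((xG_eq_one_iff hD hr _).1 h)

end Root

theorem char_ne_three {F : Type u} [Field F] (h3 : (3 : F) ≠ 0) (p : ℕ) [CharP F p] : p ≠ 3 := by
  rintro rfl
  exact h3 (by exact_mod_cast CharP.cast_eq_zero F 3)

section SixMat

variable {F : Type u} [Field F]

/-- the image of `Mz` over `F` -/
def MF (F : Type u) [Field F] : SpecialLinearGroup (Fin 6) F := SpecialLinearGroup.map (Int.castRingHom F) Mz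

theorem MF_pow : MF F ^ 9 = 1 := by
  rw [MF, ← map_pow, Mz_pow, map_one]

theorem MF_cube : MF F ^ 3 ∉ Subgroup.center (SpecialLinearGroup (Fin 6) F) := by
  intro h
  rw [Matrix.SpecialLinearGroup.mem_center_iff] at h
  obtain ⟨c, -, hc⟩ := h
  have e : ((MF F ^ 3 : SpecialLinearGroup (Fin 6) F) : Matrix (Fin 6) (Fin 6) F) 2 3 =
      (((Mz ^ 3).1 2 3 : ℤ) : F) := by
    rw [MF, ← map_pow]
    rfl
  rw [← hc] at e
  have h0 : (Matrix.scalar (Fin 6) c) 2 3 = 0 := by
    rw [Matrix.scalar_apply, Matrix.diagonal_apply_ne _ (by decide)]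
  rw [h0] at e
  rcases Mz_cube.2 with h1 | h1
  · rw [h1, Int.cast_one] at e
    exact one_ne_zero e.symm
  · rw [h1, Int.cast_neg, Int.cast_one] at e
    exact one_ne_zero (neg_eq_zero.1 e.symm)

theorem order_image {G : Type*} [Group G] {π : SpecialLinearGroup (Fin 6) F →* G}
    (hker : π.ker ≤ Subgroup.center (SpecialLinearGroup (Fin 6) F)) : orderOf (π (MF F)) = 9 := by
  refine orderOf_nine ?_ ?_
  · rw [← map_pow, MF_pow, map_one]
  · rw [← map_pow]
    intro h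
    exact MF_cube (hker h)

end SixMat

/-- `A₅ A₁` in a Chevalley group -/
theorem nine_of_A5 {D : ChevalleyDatum} (hD : InList D) {F : Type u} [Field F] [Finite F] (h3 : (3 : F) ≠ 0)
    {r : Fin 6 → Fin 6 → ℕ} {s : Fin 6 → Fin 6 → ℤ} (ha : RTa D r) (hb : RTb D r s) (hc : RTc D r) (hd : RTd s)
    {r0 : ℕ} (hr0 : r0 < D.nroots) (ho : ∀ i j, i ≠ j → OrthB D (r i j) r0 = true) : Nine ↥(D.group F) := by
  obtain ⟨p, hp⟩ := CharP.exists F
  have hpp : Fact p.Prime := ⟨CharP.char_is_prime F p⟩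
  obtain ⟨π, hπ, hker⟩ := hom_of_table hD (F := F) (m := 5) (by norm_num) ha hb hc hd
  have hy := order_image hker
  let u : ↥(D.group F) := ⟨xG hD r0 1, xG_mem_group hD _ _⟩
  have hu : orderOf u = p := by
    rw [← orderOf_injective (D.group F).subtype Subtype.val_injective u]
    exact orderOf_xG hD hr0 p
  exact nine_of_comm hy hpp.out (char_ne_three h3 p) hu
    (Subtype.ext (commute_image hD (m := 5) (by norm_num) ha hπ hr0 ho (MF F) 1))

theorem ortho_E6 : ∀ i j : Fin 6, i ≠ j → OrthB chevE6 (rE6 i j) 71 = true := by decide +kernel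
theorem ortho_E8 : ∀ i j : Fin 6, i ≠ j → OrthB chevE8 (rE8 i j) 239 = true := by decide +kernel

/-- root table for E₇ -/
def rE7 : Fin 6 → Fin 6 → ℕ := ![![0, 93, 94, 95, 96, 97], ![32, 0, 73, 74, 75, 76], ![31, 52, 0, 69, 70, 71], ![30, 51, 56, 0, 66, 67], ![29, 50, 55, 59, 0, 64], ![28, 49, 54, 58, 61, 0]]

theorem ortho_E7 : ∀ i j : Fin 6, i ≠ j → OrthB chevE7 (rE7 i j) 119 = true := by decide +kernel
theorem e7a : RTa chevE7 rE7 := by decide +kernel
theorem e7b : RTb chevE7 rE7 sE6 := by decide +kernel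
theorem e7c : RTc chevE7 rE7 := by decide +kernel

theorem e6 {F : Type u} [Field F] [Finite F] (h3 : (3 : F) ≠ 0) : Nine ↥(chevE6.group F) :=
  nine_of_A5 (by simp [InList]) h3 a5_E6.a a5_E6.b a5_E6.c a5_E6.d (by decide) ortho_E6

theorem e7 {F : Type u} [Field F] [Finite F] (h3 : (3 : F) ≠ 0) : Nine ↥(chevE7.group F) :=
  nine_of_A5 (by simp [InList]) h3 e7a e7b e7c a5_E6.d (by decide) ortho_E7

theorem e8 {F : Type u} [Field F] [Finite F] (h3 : (3 : F) ≠ 0) : Nine ↥(chevE8.group F) :=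
  nine_of_A5 (by simp [InList]) h3 a5_E8.a a5_E8.b a5_E8.c a5_E8.d (by decide) ortho_E8

/-! ### `²E₆(q)` -/

section TwE6

open Cfsg.Agent.ChevalleyStructure.TwistedE6G

variable {K : Type u} [Field K] {q : ℕ}

theorem hE6' : InList chevE6 := by simp [InList]

/-- products of the `n_J` -/
theorem conj_word (hq : (-1 : K) ^ q = -1) : ∀ (L : List (List ℕ)), (∀ js ∈ L, js ∈ Js) → ∀ {s : ℕ}, s < 72 →
    L.foldr wJ s < 72 ∧ ∃ n ∈ twistedE6 K q, ∃ η : K, ∀ t : K,
      n * xG hE6' s t * n⁻¹ = xG hE6' (L.foldr wJ s) (η * t) := by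
  intro L
  induction L with
  | nil =>
    intro _ s hs
    exact ⟨hs, 1, Subgroup.one_mem _, 1, fun t => by simp⟩
  | cons js L ih =>
    intro hL s hs
    obtain ⟨h1, n, hn, η, h2⟩ := ih (fun i hi => hL i (List.mem_cons_of_mem _ hi)) hs
    have hjs : js ∈ Js := hL js List.mem_cons_self
    obtain ⟨h3, η', h4⟩ := nJ_conj (K := K) (js := js) (Js_lt js hjs) h1
    refine ⟨h3, nJ K js * n, Subgroup.mul_mem _ (nJ_mem hq js hjs) hn, η' * η, fun t => ?_⟩
    have h5 := h4 (η * t)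
    have e2 : (js :: L).foldr wJ s = wJ js (L.foldr wJ s) := rfl
    rw [e2, _root_.mul_inv_rev]
    calc nJ K js * n * xG hE6' s t * (n⁻¹ * (nJ K js)⁻¹)
        = nJ K js * (n * xG hE6' s t * n⁻¹) * (nJ K js)⁻¹ := by group
      _ = nJ K js * xG hE6' (L.foldr wJ s) (η * t) * (nJ K js)⁻¹ := by rw [h2]
      _ = xG hE6' (wJ js (L.foldr wJ s)) (η' * (η * t)) := h5
      _ = _ := by rw [mul_assoc]

theorem word_71 : List.foldr wJ 46 [[1], [3], [2, 4], [0, 5], [3], [2, 4], [3]] = 71 := by decide +kernel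

theorem map_T (i j : Fin 6) (h : i ≠ j) (c : ℤ) : SpecialLinearGroup.map (Int.castRingHom K) (T i j h c) =
    SpecialLinearGroup.transvection h (c : K) := by
  ext a b
  show ((((T i j h c).1 a b : ℤ)) : K) = _
  simp only [T, SpecialLinearGroup.transvection, Matrix.transvection, Matrix.single, Matrix.one_apply,
    Matrix.add_apply, Matrix.of_apply]
  push_cast
  rfl

theorem te6 [Fintype K] (h3 : (3 : K) ≠ 0) (hq : IsPrimePow q) (hK : Fintype.card K = q ^ 2) :
    Nine ↥(twistedE6 K q) := by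
  obtain ⟨p, hp⟩ := CharP.exists K
  have hpp : Fact p.Prime := ⟨CharP.char_is_prime K p⟩
  obtain ⟨φ, hφ⟩ := Cfsg.Agent.ChevalleyStructure.D4Fixed.exists_frob (K := K) hq hK
  have hone : (1 : K) ^ q = 1 := one_pow q
  have hneg : (-1 : K) ^ q = -1 := by rw [← hφ, map_neg, map_one]
  obtain ⟨π, hπ, hker⟩ := hom_of_table hE6' (F := K) (m := 5) (by norm_num) a5_E6.a a5_E6.b a5_E6.c a5_E6.d
  have hy := order_image hker
  -- the words
  have mem1 : ∀ i j (h : i ≠ j) (c : ℤ), rE6 i j ∈ [46, 25, 39, 32] → sE6 i j = 1 → ((c : K)) ^ q = c →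
      ((π (SpecialLinearGroup.map (Int.castRingHom K) (T i j h c)) : ↥(chevE6.group K)) : GL chevE6.Idx K) ∈
        twistedE6 K q := by
    intro i j h c h1 h2 h4
    rw [map_T, hπ, h2, Int.cast_one, one_mul]
    exact Cfsg.Agent.H542.PairTw.single_mem h4 h1
  have mem2 : ∀ i j (h : i ≠ j) k l (h' : k ≠ l) (c : ℤ), (rE6 i j, rE6 k l) ∈ [(56, 36), (15, 35), (42, 37), (29, 34)] →
      sE6 i j = 1 → sE6 k l = 1 → ((c : K)) ^ q = c →
      ((π (SpecialLinearGroup.map (Int.castRingHom K) (T i j h c * T k l h' c)) : ↥(chevE6.group K)) :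
        GL chevE6.Idx K) ∈ twistedE6 K q := by
    intro i j h k l h' c h1 h2 h2' h4
    rw [map_mul, map_mul, map_T, map_T, Subgroup.coe_mul, hπ, hπ, h2, h2', Int.cast_one, one_mul]
    have h5 := Cfsg.Agent.H542.PairTw.pair_mem (K := K) (q := q) (c : K) h1
    rwa [h4] at h5
  have hc1 : ((1 : ℤ) : K) ^ q = ((1 : ℤ) : K) := by rw [Int.cast_one, hone]
  have hc2 : ((-1 : ℤ) : K) ^ q = ((-1 : ℤ) : K) := by rw [Int.cast_neg, Int.cast_one, hneg]
  let H : Subgroup (SpecialLinearGroup (Fin 6) ℤ) := (twistedE6 K q).comap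
    (((chevE6.group K).subtype.comp π).comp (SpecialLinearGroup.map (Int.castRingHom K)))
  have m1 : ∀ i j (h : i ≠ j) (c : ℤ), rE6 i j ∈ [46, 25, 39, 32] → sE6 i j = 1 → (c = 1 ∨ c = -1) →
      T i j h c ∈ H := by
    intro i j h c h1 h2 h4
    refine mem1 i j h c h1 h2 ?_
    rcases h4 with rfl | rfl
    · exact hc1
    · exact hc2
  have m2 : ∀ i j (h : i ≠ j) k l (h' : k ≠ l) (c : ℤ), (rE6 i j, rE6 k l) ∈ [(56, 36), (15, 35), (42, 37), (29, 34)] →
      sE6 i j = 1 → sE6 k l = 1 → (c = 1 ∨ c = -1) → T i j h c * T k l h' c ∈ H := by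
    intro i j h k l h' c h1 h2 h2' h4
    refine mem2 i j h k l h' c h1 h2 h2' ?_
    rcases h4 with rfl | rfl
    · exact hc1
    · exact hc2
  have hMz : Mz ∈ H := by
    refine H.mul_mem (H.mul_mem (H.mul_mem (H.mul_mem (H.mul_mem (H.mul_mem ?_ ?_) ?_) ?_) ?_) ?_) ?_
    · refine H.mul_mem (H.mul_mem (H.mul_mem ?_ ?_) ?_) ?_ <;>
        exact m1 _ _ _ _ (by decide) (by decide) (by decide)
    all_goals exact m2 _ _ _ _ _ _ _ (by decide) (by decide) (by decide) (by decide)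
  have hmem : ((π (MF K) : ↥(chevE6.group K)) : GL chevE6.Idx K) ∈ twistedE6 K q := hMz
  let y : ↥(twistedE6 K q) := ⟨_, hmem⟩
  have hy9 : orderOf y = 9 := by
    rw [← hy, ← orderOf_injective (twistedE6 K q).subtype Subtype.val_injective y,
      ← orderOf_injective (chevE6.group K).subtype Subtype.val_injective (π (MF K))]
    rfl
  -- the commuting unipotent element
  obtain ⟨-, n, hn, η, hη⟩ := conj_word hneg [[1], [3], [2, 4], [0, 5], [3], [2, 4], [3]] (by decide) (s := 46)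
    (by norm_num)
  rw [word_71] at hη
  have h46 : xG hE6' 46 (1 : K) ∈ twistedE6 K q := Cfsg.Agent.H542.PairTw.single_mem hone (by simp)
  let u : ↥(twistedE6 K q) := ⟨n, hn⟩ * ⟨_, h46⟩ * ⟨n, hn⟩⁻¹
  have hu : orderOf u = p := by
    have h1 := orderOf_injective (MulAut.conj (⟨n, hn⟩ : ↥(twistedE6 K q))).toMonoidHom
      (MulAut.conj (⟨n, hn⟩ : ↥(twistedE6 K q))).injective (⟨_, h46⟩ : ↥(twistedE6 K q))
    have h2 : (MulAut.conj (⟨n, hn⟩ : ↥(twistedE6 K q))).toMonoidHom (⟨_, h46⟩ : ↥(twistedE6 K q)) = u := rfl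
    rw [h2] at h1
    rw [h1, ← orderOf_injective (twistedE6 K q).subtype Subtype.val_injective]
    exact orderOf_xG hE6' (by decide) p
  have hcu : (u : GL chevE6.Idx K) = xG hE6' 71 (η * 1) := by
    rw [← hη]
    rfl
  refine nine_of_comm hy9 hpp.out (char_ne_three h3 p) hu (Subtype.ext ?_)
  have h7 := commute_image hE6' (m := 5) (by norm_num) a5_E6.a hπ (r0 := 71) (by decide) ortho_E6 (MF K) (η * 1)
  rw [← hcu] at h7
  exact h7

end TwE6

/-! ### `³D₄(q)` -/

section D4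

open Cfsg.Agent.H343 Cfsg.Agent.ETable.Exc

theorem nine_dvd {q : ℕ} (h : ¬ 3 ∣ q) : 3 ^ 2 ∣ (q ^ 3) ^ 2 - 1 := by
  have h1 : q % 9 = 1 ∨ q % 9 = 2 ∨ q % 9 = 4 ∨ q % 9 = 5 ∨ q % 9 = 7 ∨ q % 9 = 8 := by omega
  have h2 : ((q ^ 3) ^ 2) % 9 = 1 := by
    rcases h1 with h | h | h | h | h | h <;> simp [Nat.pow_mod, h]
  omega

theorem td4 {K : Type u} [Field K] [Fintype K] (h3 : (3 : K) ≠ 0) {q : ℕ} (hq : IsPrimePow q)
    (hK : Fintype.card K = q ^ 3) : Nine ↥(twistedD4 K q) := by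
  obtain ⟨r, hr⟩ := CharP.exists K
  have hrr : Fact r.Prime := ⟨CharP.char_is_prime K r⟩
  have hr3 := char_ne_three h3 r
  have hq3 : ¬ 3 ∣ q := by
    intro h
    obtain ⟨n, -, hn⟩ := FiniteField.card K r
    have h1 : 3 ∣ r ^ (n : ℕ) := by rw [← hn, hK]; exact dvd_pow h three_ne_zero
    exact hr3 ((Nat.prime_dvd_prime_iff_eq Nat.prime_three hrr.out).1 (Nat.prime_three.dvd_of_dvd_pow h1)).symm
  obtain ⟨φ, hφ⟩ := Cfsg.Agent.ChevalleyStructure.D4Fixed.exists_frob (K := K) hq hK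
  obtain ⟨k, _, _, ι, hk, hι⟩ := exists_subfield K hq three_ne_zero hK
  have hck : CharP k r := (RingHom.charP_iff ι ι.injective r).2 inferInstance
  have hφι : ∀ t, φ (ι t) = ι t := fun t => by rw [hφ, hι]
  have hR : RootIn inList_D4 ι (twistedD4 K q) 23 :=
    ⟨Tri.l23, fun t => by rw [Tri.xG_eq']; exact Tri.mem_23 hφ (hφι t),
      fun t => by
        rw [Tri.xG_eq', D4NConj.neg_eq (by norm_num)]; exact Tri.mem_0 hφ (hφι t)⟩
  let g : Matrix.SpecialLinearGroup (Fin 2) K →* twistedD4 K q :=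
    (Tri.shHom φ).codRestrict (twistedD4 K q) (Tri.shHom_mem hφ)
  have hg : ∀ x, g x = 1 → x = 1 ∨ x = -1 := fun x hx => Tri.shHom_ker φ (congrArg Subtype.val hx)
  have hc : ∀ b a, Commute (g b) (hR.hom a) := by
    intro b a
    apply Commute.symm
    apply Subtype.ext
    change rootHom₀ inList_D4 ι hR.lt a * Tri.sh φ b = Tri.sh φ b * rootHom₀ inList_D4 ι hR.lt a
    have c1 : Commute (rootHom₀ inList_D4 ι hR.lt a) (rootHom₀ inList_D4 (RingHom.id K) Tri.l18 b) :=
      Tri.rootHom₀_comm ι (RingHom.id K) _ _ Tri.so_23_18 a b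
    have c2 : Commute (rootHom₀ inList_D4 ι hR.lt a) (rootHom₀ inList_D4 φ Tri.l13 b) :=
      Tri.rootHom₀_comm ι φ _ _ Tri.so_23_13 a b
    have c3 : Commute (rootHom₀ inList_D4 ι hR.lt a) (rootHom₀ inList_D4 (φ.comp φ) Tri.l12 b) :=
      Tri.rootHom₀_comm ι (φ.comp φ) _ _ Tri.so_23_12 a b
    exact (c1.mul_right (c2.mul_right c3)).eq
  obtain ⟨b, hb⟩ := Cfsg.Agent.H109.ROrth.exists_orderOf (F := K) (a := 2)
    (by rw [Nat.card_eq_fintype_card, hK]; exact fun h => hq3 (Nat.prime_three.dvd_of_dvd_pow h))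
    (by rw [Nat.card_eq_fintype_card, hK]; exact nine_dvd hq3)
  have hgb : orderOf (g b) = 9 := by
    refine orderOf_nine ?_ ?_
    · rw [← map_pow]
      have : b ^ 9 = 1 := by
        have h := pow_orderOf_eq_one b
        rw [hb] at h
        exact h
      rw [this, map_one]
    · rw [← map_pow]
      intro h
      have h1 : b ^ 6 = 1 := by
        have e : b ^ 6 = (b ^ 3) ^ 2 := by rw [← pow_mul]
        rcases hg _ h with h2 | h2
        · rw [e, h2, one_pow]
        · rw [e, h2, neg_one_sq]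
      have h2 := orderOf_dvd_of_pow_eq_one h1
      rw [hb] at h2
      norm_num at h2
  obtain ⟨a, ha⟩ := Cfsg.Agent.H542.PairTools.exists_ord hR.hom (fun _ => hR.ker) r (Or.inr (Or.inr rfl))
  exact nine_of_comm hgb hrr.out hr3 ha (hc b a)

end D4

/-! ### `F₄(q)` -/

section F4

theorem hF4 : InList chevF4 := by simp [InList]

/-- the short `A₂` -/
def rF : Fin 3 → Fin 3 → ℕ := ![![0, 33, 34], ![14, 0, 27], ![13, 20, 0]]
/-- signs -/
def sF : Fin 3 → Fin 3 → ℤ := ![![1, 1, -1], ![1, 1, 1], ![-1, 1, 1]]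

theorem fa : RTa chevF4 rF := by decide +kernel
theorem fb : RTb chevF4 rF sF := by decide +kernel
theorem fc : RTc chevF4 rF := by decide +kernel
theorem fd : RTd sF := by decide +kernel

/-- transvection, integral -/
def T3 (i j : Fin 3) (h : i ≠ j) (c : ℤ) : SpecialLinearGroup (Fin 3) ℤ := SpecialLinearGroup.transvection h c

/-- an element of order 3 -/
def Nz : SpecialLinearGroup (Fin 3) ℤ :=
  (T3 0 1 (by decide) 1 * (T3 1 0 (by decide) (-1) * T3 0 1 (by decide) 1)) *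
  (T3 1 2 (by decide) 1 * (T3 2 1 (by decide) (-1) * T3 1 2 (by decide) 1))

theorem Nz_pow : Nz ^ 3 = 1 := by decide +kernel

theorem map_T3 {K : Type u} [Field K] (i j : Fin 3) (h : i ≠ j) (c : ℤ) :
    SpecialLinearGroup.map (Int.castRingHom K) (T3 i j h c) = SpecialLinearGroup.transvection h (c : K) := by
  ext a b
  show ((((T3 i j h c).1 a b : ℤ)) : K) = _
  simp only [T3, SpecialLinearGroup.transvection, Matrix.transvection, Matrix.single, Matrix.one_apply,
    Matrix.add_apply, Matrix.of_apply]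
  push_cast
  rfl

variable {F : Type u} [Field F]

theorem nG_conj4 {i s : ℕ} (hi : i < 4) (hs : s < 48) :
    ∃ η : F, ∀ t : F, nG hF4 (chevF4.simple i) 1 * xG hF4 s t * (nG hF4 (chevF4.simple i) 1)⁻¹ =
      xG hF4 (chevF4.reflectRoot i s) (η * t) := by
  obtain ⟨η, -, h⟩ := Cfsg.Agent.S1031.result (F := F) chevF4 hF4 i s hi hs
  refine ⟨(η : F), fun t => ?_⟩
  rw [mul_inv_eq_iff_eq_mul]
  exact Units.ext (h t)

theorem tabF : chevF4.simple 0 = 33 ∧ chevF4.simple 1 = 27 ∧ chevF4.neg 33 = 14 ∧ chevF4.neg 27 = 20 ∧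
    chevF4.neg 25 = 22 ∧ chevF4.reflectRoot 1 25 < 48 ∧ chevF4.reflectRoot 1 22 < 48 ∧
    chevF4.reflectRoot 0 (chevF4.reflectRoot 1 25) = 41 ∧ chevF4.reflectRoot 0 (chevF4.reflectRoot 1 22) = 6 ∧
    OrthB chevF4 25 41 = true ∧ OrthB chevF4 25 6 = true ∧ OrthB chevF4 22 41 = true ∧ OrthB chevF4 22 6 = true ∧
    OrthB chevF4 25 47 = true ∧ OrthB chevF4 22 47 = true := by decide +kernel

theorem orthoF : ∀ i j : Fin 3, i ≠ j → OrthB chevF4 (rF i j) 47 = true := by decide +kernel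

theorem conjF {s s' : ℕ} (hs : s < 48) (hs1 : chevF4.reflectRoot 1 s < 48)
    (hs2 : chevF4.reflectRoot 0 (chevF4.reflectRoot 1 s) = s') :
    ∃ η : F, ∀ t : F, (nG hF4 33 1 * nG hF4 27 1) * xG hF4 s t * (nG hF4 33 1 * nG hF4 27 1)⁻¹ =
      xG hF4 s' (η * t) := by
  obtain ⟨η, h⟩ := nG_conj4 (F := F) (i := 1) (by norm_num) hs
  obtain ⟨η', h'⟩ := nG_conj4 (F := F) (i := 0) (by norm_num) hs1
  rw [tabF.2.1] at h
  rw [tabF.1, hs2] at h'
  refine ⟨η' * η, fun t => ?_⟩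
  have h3 := h t
  have h4 := h' (η * t)
  rw [← h3] at h4
  rw [_root_.mul_inv_rev, mul_assoc η' η t, ← h4]
  group

theorem f4 [Finite F] (h3 : (3 : F) ≠ 0) : Nine ↥(chevF4.group F) := by
  obtain ⟨p, hp⟩ := CharP.exists F
  have hpp : Fact p.Prime := ⟨CharP.char_is_prime F p⟩
  obtain ⟨π, hπ, hker⟩ := hom_of_table hF4 (F := F) (m := 2) le_rfl fa fb fc fd
  obtain ⟨t1, t2, t3, t4, t5, t6, t7, t8, t9, o1, o2, o3, o4, o5, o6⟩ := tabF
  have h25 : 25 < chevF4.nroots := by decide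
  have h22 : 22 < chevF4.nroots := by decide
  have h41 : 41 < chevF4.nroots := by decide
  have h6 : 6 < chevF4.nroots := by decide
  have h47 : 47 < chevF4.nroots := by decide
  let ψ : SL2 F →* ↥(chevF4.group F) := ph hF4 h25
  let n : ↥(chevF4.group F) := π (SpecialLinearGroup.map (Int.castRingHom F) Nz)
  have hn3 : n ^ 3 = 1 := by
    show (π _) ^ 3 = 1
    rw [← map_pow, ← map_pow, Nz_pow, map_one, map_one]
  have hnc : (n : GL chevF4.Idx F) = nG hF4 33 1 * nG hF4 27 1 := by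
    let f : SpecialLinearGroup (Fin 3) ℤ →* GL chevF4.Idx F :=
      (chevF4.group F).subtype.comp (π.comp (SpecialLinearGroup.map (Int.castRingHom F)))
    have hT : ∀ i j (h : i ≠ j) (c : ℤ), f (T3 i j h c) = xG hF4 (rF i j) ((sF i j : F) * (c : F)) := by
      intro i j h c
      show ((π (SpecialLinearGroup.map (Int.castRingHom F) (T3 i j h c)) : ↥(chevF4.group F)) : GL chevF4.Idx F) = _
      rw [map_T3]
      exact hπ i j h c
    show f Nz = _
    rw [Nz]
    simp only [map_mul, hT]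
    rw [nG_def, nG_def, t3, t4]
    simp [rF, sF]
  obtain ⟨η1, hη1⟩ := conjF (F := F) (s := 25) (by norm_num) t6 t8
  obtain ⟨η2, hη2⟩ := conjF (F := F) (s := 22) (by norm_num) t7 t9
  have hψu : ∀ t, ((ψ (up t) : ↥(chevF4.group F)) : GL chevF4.Idx F) = xG hF4 25 t := fun t => phi_up hF4 h25 t
  have hψl : ∀ t, ((ψ (lo t) : ↥(chevF4.group F)) : GL chevF4.Idx F) = xG hF4 22 t := fun t => by
    have h := phi_lo hF4 h25 t
    rw [t5] at h
    exact h
  -- elements of the root groups ±41 commute with `ψ`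
  have hc41 : ∀ x c, Commute ((ψ x : ↥(chevF4.group F)) : GL chevF4.Idx F) (xG hF4 41 c) := by
    intro x c
    refine commute_of_up_lo ((chevF4.group F).subtype.comp ψ) (xG hF4 41 c) (fun t => ?_) (fun t => ?_) x
    · show Commute ((ψ (up t) : ↥(chevF4.group F)) : GL chevF4.Idx F) _
      rw [hψu]; exact xG_commute hF4 h25 h41 o1 _ _
    · show Commute ((ψ (lo t) : ↥(chevF4.group F)) : GL chevF4.Idx F) _
      rw [hψl]; exact xG_commute hF4 h22 h41 o3 _ _
  have hc6 : ∀ x c, Commute ((ψ x : ↥(chevF4.group F)) : GL chevF4.Idx F) (xG hF4 6 c) := by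
    intro x c
    refine commute_of_up_lo ((chevF4.group F).subtype.comp ψ) (xG hF4 6 c) (fun t => ?_) (fun t => ?_) x
    · show Commute ((ψ (up t) : ↥(chevF4.group F)) : GL chevF4.Idx F) _
      rw [hψu]; exact xG_commute hF4 h25 h6 o2 _ _
    · show Commute ((ψ (lo t) : ↥(chevF4.group F)) : GL chevF4.Idx F) _
      rw [hψl]; exact xG_commute hF4 h22 h6 o4 _ _
  have hc : ∀ x y, Commute (ψ x) (n * ψ y * n⁻¹) := by
    intro x y
    have key := commute_of_up_lo ((MulAut.conj n).toMonoidHom.comp ψ) (ψ x) (fun t => ?_) (fun t => ?_) y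
    · exact key.symm
    · show Commute (n * ψ (up t) * n⁻¹) (ψ x)
      apply Commute.symm
      apply Subtype.ext
      show ((ψ x : ↥(chevF4.group F)) : GL chevF4.Idx F) * ((n : GL chevF4.Idx F) * (ψ (up t) : ↥(chevF4.group F)) *
        (n : GL chevF4.Idx F)⁻¹) = ((n : GL chevF4.Idx F) * (ψ (up t) : ↥(chevF4.group F)) *
        (n : GL chevF4.Idx F)⁻¹) * ((ψ x : ↥(chevF4.group F)) : GL chevF4.Idx F)
      rw [hnc, hψu, hη1]
      exact hc41 x _
    · show Commute (n * ψ (lo t) * n⁻¹) (ψ x)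
      apply Commute.symm
      apply Subtype.ext
      show ((ψ x : ↥(chevF4.group F)) : GL chevF4.Idx F) * ((n : GL chevF4.Idx F) * (ψ (lo t) : ↥(chevF4.group F)) *
        (n : GL chevF4.Idx F)⁻¹) = ((n : GL chevF4.Idx F) * (ψ (lo t) : ↥(chevF4.group F)) *
        (n : GL chevF4.Idx F)⁻¹) * ((ψ x : ↥(chevF4.group F)) : GL chevF4.Idx F)
      rw [hnc, hψl, hη2]
      exact hc6 x _
  have hthr : thr F ^ 3 = 1 := by
    have h := pow_orderOf_eq_one (thr F)
    rwa [orderOf_thr] at h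
  have hne : ∃ b, ψ (thr F) * ψ b ≠ ψ b * ψ (thr F) := by
    refine ⟨up 1, fun h => ?_⟩
    rw [← map_mul, ← map_mul] at h
    have h1 : ψ ((thr F * up 1) * (up 1 * thr F)⁻¹) = 1 := by
      rw [map_mul, map_inv, h, mul_inv_cancel]
    have e1 : (thr F * up 1 : SL2 F).1 0 0 = 0 := by
      show ((thr F).1 * (up (1 : F)).1) 0 0 = 0
      simp [thr, up, Matrix.mul_apply, Fin.sum_univ_two]
    have e2 : (up 1 * thr F : SL2 F).1 0 0 = -1 := by
      show ((up (1 : F)).1 * (thr F).1) 0 0 = -1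
      simp [thr, up, Matrix.mul_apply, Fin.sum_univ_two]
    rcases ph_eq_one hF4 h25 h1 with h2 | h2
    · rw [mul_inv_eq_one] at h2
      rw [h2, e2] at e1
      exact one_ne_zero (neg_eq_zero.1 e1)
    · rw [mul_inv_eq_iff_eq_mul, neg_one_mul] at h2
      rw [h2] at e1
      have e3 : (-(up 1 * thr F) : SL2 F).1 0 0 = -(up 1 * thr F : SL2 F).1 0 0 := rfl
      rw [e3, e2, neg_neg] at e1
      exact one_ne_zero e1
  have hy := wreath_order ψ hn3 hc hthr hne
  let u : ↥(chevF4.group F) := ⟨xG hF4 47 1, xG_mem_group hF4 _ _⟩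
  have hu : orderOf u = p := by
    rw [← orderOf_injective (chevF4.group F).subtype Subtype.val_injective u]
    exact orderOf_xG hF4 h47 p
  refine nine_of_comm hy hpp.out (char_ne_three h3 p) hu (Commute.mul_left ?_ ?_)
  · apply Subtype.ext
    have := commute_of_up_lo ((chevF4.group F).subtype.comp ψ) (xG hF4 47 1) (fun t => ?_) (fun t => ?_) (thr F)
    · exact this
    · show Commute ((ψ (up t) : ↥(chevF4.group F)) : GL chevF4.Idx F) _
      rw [hψu]; exact xG_commute hF4 h25 h47 o5 _ _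
    · show Commute ((ψ (lo t) : ↥(chevF4.group F)) : GL chevF4.Idx F) _
      rw [hψl]; exact xG_commute hF4 h22 h47 o6 _ _
  · exact Subtype.ext (commute_image hF4 (m := 2) le_rfl fa hπ h47 orthoF _ 1)

end F4

end Cfsg.Agent.H542.NineExc
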