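import Mathlib
import Cfsg.Agent.H582.Final

/-!
# Chains with nilpotent factors and the Fitting height of `C_G(H)` (helper542)

`Chain n G` : `G` has a chain of `n + 1` normal subgroups from `1` to `G` with nilpotent factors.
`chain_of_fixed` : `A = F H` a Frobenius group acting on the finite solvable group `G` with
`C_G(F) = 1`; a chain of `C_G(H)` gives a chain of `G`.
-/

set_option autoImplicit false

namespace Cfsg.Agent.H542.Height

open Subgroup

/-- A chain of normal subgroups with nilpotent factors. -/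
def Chain (n : ℕ) (G : Type*) [Group G] : Prop :=
  ∃ F : Fin (n + 1) → Subgroup G, F 0 = ⊥ ∧ F (Fin.last n) = ⊤ ∧ Monotone F ∧ (∀ i, (F i).Normal) ∧
    ∀ i : Fin n, ∃ k : ℕ, (F i.succ).lowerCentralSeries k ≤ F i.castSucc

theorem chain_subgroup {n : ℕ} {G : Type*} [Group G] (h : Chain n G) (C : Subgroup G) : Chain n C := by
  obtain ⟨F, h0, h1, hm, hn, hk⟩ := h
  refine ⟨fun i => (F i).subgroupOf C, ?_, ?_, ?_, ?_, ?_⟩
  · show (F 0).subgroupOf C = ⊥
    rw [h0, bot_subgroupOf]
  · show (F (Fin.last n)).subgroupOf C = ⊤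
    rw [h1, top_subgroupOf]
  · intro i j hij
    exact comap_mono (hm hij)
  · intro i
    have := hn i
    infer_instance
  · intro i
    obtain ⟨k, hk⟩ := hk i
    refine ⟨k, fun x hx => ?_⟩
    apply hk
    have h2 : (C.subtype x) ∈ (((F i.succ).subgroupOf C).lowerCentralSeries k).map C.subtype := ⟨x, hx, rfl⟩
    rw [map_lowerCentralSeries] at h2
    exact lowerCentralSeries_mono k (map_comap_le _ _) h2

theorem subsingleton_of_chain_zero {G : Type*} [Group G] (h : Chain 0 G) : ∀ g : G, g = 1 := by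
  obtain ⟨F, h0, h1, -⟩ := h
  intro g
  have h2 : g ∈ F (Fin.last 0) := by rw [h1]; trivial
  have h3 : (Fin.last 0) = 0 := rfl
  rw [h3, h0] at h2
  exact mem_bot.mp h2

theorem chain_zero_of {G : Type*} [Group G] (h : ∀ g : G, g = 1) : Chain 0 G :=
  ⟨fun _ => ⊥, rfl, by
    show (⊥ : Subgroup G) = ⊤
    rw [eq_comm, eq_bot_iff_forall]
    exact fun x _ => h x, fun _ _ _ => le_rfl, fun _ => inferInstance, fun i => i.elim0⟩

theorem chain_cons {n : ℕ} {G : Type*} [Group G] (N : Subgroup G) [N.Normal] (hN : Group.IsNilpotent N)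
    (h : Chain n (G ⧸ N)) : Chain (n + 1) G := by
  obtain ⟨F, h0, h1, hm, hn, hk⟩ := h
  refine ⟨Fin.cons ⊥ (fun i => (F i).comap (QuotientGroup.mk' N)), rfl, ?_, ?_, ?_, ?_⟩
  · show (Fin.cons ⊥ (fun i => (F i).comap (QuotientGroup.mk' N)) : Fin (n + 2) → Subgroup G)
      (Fin.last n).succ = ⊤
    rw [Fin.cons_succ, h1, comap_top]
  · intro i j hij
    refine Fin.cases ?_ (fun i => ?_) i hij
    · intro _
      rw [Fin.cons_zero]
      exact bot_le
    · intro hij
      refine Fin.cases ?_ (fun j => ?_) j hij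
      · intro h
        exact absurd h (by simp)
      · intro h
        rw [Fin.cons_succ, Fin.cons_succ]
        exact comap_mono (hm (Fin.succ_le_succ_iff.mp h))
  · intro i
    refine Fin.cases ?_ (fun i => ?_) i
    · rw [Fin.cons_zero]; infer_instance
    · rw [Fin.cons_succ]
      have := hn i
      infer_instance
  · intro i
    refine Fin.cases ?_ (fun i => ?_) i
    · obtain ⟨k, hk⟩ := (isNilpotent_iff_lowerCentralSeries _).mp hN
      refine ⟨k, ?_⟩
      have h2 : (Fin.cons ⊥ (fun i => (F i).comap (QuotientGroup.mk' N)) : Fin (n + 2) → Subgroup G)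
          (Fin.succ 0) = N := by
        rw [Fin.cons_succ, h0]
        show (⊥ : Subgroup (G ⧸ N)).comap (QuotientGroup.mk' N) = N
        rw [MonoidHom.comap_bot, QuotientGroup.ker_mk']
      rw [h2, hk]
      exact bot_le
    · obtain ⟨k, hk⟩ := hk i
      refine ⟨k, ?_⟩
      rw [Fin.cons_succ, ← Fin.succ_castSucc, Fin.cons_succ, ← map_le_iff_le_comap, map_lowerCentralSeries]
      exact (lowerCentralSeries_mono k (map_comap_le _ _)).trans hk

/-- the tail of a chain, under a surjective homomorphism killing the first term -/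
theorem chain_tail {n : ℕ} {G K : Type*} [Group G] [Group K] (f : G →* K) (hf : Function.Surjective f)
    (h : Chain (n + 1) G) (hker : ∀ N : Subgroup G, N.Normal → Group.IsNilpotent N → N ≤ f.ker) :
    Chain n K := by
  obtain ⟨F, h0, h1, hm, hn, hk⟩ := h
  refine ⟨fun i => (F i.succ).map f, ?_, ?_, ?_, ?_, ?_⟩
  · show (F (Fin.succ 0)).map f = ⊥
    rw [Subgroup.map_eq_bot_iff]
    apply hker _ (hn _)
    rw [isNilpotent_iff_lowerCentralSeries]
    obtain ⟨k, hk⟩ := hk 0
    refine ⟨k, ?_⟩
    rw [_root_.eq_bot_iff]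
    refine hk.trans ?_
    rw [Fin.castSucc_zero, h0]
  · show (F (Fin.last n).succ).map f = ⊤
    rw [Fin.succ_last, h1, ← MonoidHom.range_eq_map, MonoidHom.range_eq_top.mpr hf]
  · intro i j hij
    exact map_mono (hm (Fin.succ_le_succ_iff.mpr hij))
  · intro i
    exact (hn i.succ).map f hf
  · intro i
    obtain ⟨k, hk⟩ := hk i.succ
    refine ⟨k, ?_⟩
    show ((F i.succ.succ).map f).lowerCentralSeries k ≤ (F i.castSucc.succ).map f
    rw [← map_lowerCentralSeries, Fin.succ_castSucc]
    exact map_mono hk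

universe u w

open Cfsg.Agent.H582 in
theorem chain_of_fixed {A : Type w} [Group A] [Finite A] {F H : Subgroup A} (hA : IsFrob F H) :
    ∀ (n : ℕ) (G : Type u) [Group G] [Finite G] [MulDistribMulAction A G] (_ : Group.IsSolvable G)
      (_ : ∀ g : G, (∀ f ∈ F, f • g = g) → g = 1) (C : Subgroup G)
      (_ : ∀ g : G, g ∈ C ↔ ∀ h ∈ H, h • g = g), Chain n C → Chain n G := by
  intro n
  induction n with
  | zero =>
    intro G _ _ _ hsol hfix C hC h
    have h1 := subsingleton_of_chain_zero h
    apply chain_zero_of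
    refine eq_one hA hsol hfix (fun g hg => ?_)
    exact congrArg Subtype.val (h1 ⟨g, (hC g).mpr hg⟩)
  | succ n ih =>
    intro G _ _ _ hsol hfix C hC h
    have hN : (Cfsg.fittingSubgroup G).Normal := Cfsg.Agent.Lib.Cores.fittingSubgroup_normal
    have hNc : (Cfsg.fittingSubgroup G).Characteristic := Cfsg.Agent.Lib.Cores.fittingSubgroup_characteristic
    have hNA : ∀ (a : A) (g : G), g ∈ Cfsg.fittingSubgroup G → a • g ∈ Cfsg.fittingSubgroup G :=
      smul_mem_of_char _ hNc
    have hN' : ((Cfsg.fittingSubgroup G).subgroupOf C).Normal := inferInstance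
    obtain ⟨-, -, h3, h4⟩ := image_props hA hsol hfix C hC (Cfsg.fittingSubgroup G) hNA
      ((Cfsg.fittingSubgroup G).subgroupOf C) rfl ⊥ inferInstance
    let _inst : MulDistribMulAction A (G ⧸ Cfsg.fittingSubgroup G) := quotAct (Cfsg.fittingSubgroup G) hNA
    let C₂ : Subgroup (G ⧸ Cfsg.fittingSubgroup G) :=
      { carrier := {x | ∀ h ∈ H, h • x = x}
        one_mem' := fun h _ => smul_one h
        mul_mem' := fun {a b} ha hb h hh => by rw [smul_mul', ha h hh, hb h hh]
        inv_mem' := fun {a} ha h hh => by rw [smul_inv', ha h hh] }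
    let f : C →* C₂ :=
      { toFun := fun c => ⟨((c : G) : G ⧸ Cfsg.fittingSubgroup G), fun h hh =>
          congrArg (QuotientGroup.mk (s := Cfsg.fittingSubgroup G)) ((hC c).mp c.2 h hh)⟩
        map_one' := rfl
        map_mul' := fun _ _ => rfl }
    have hf : Function.Surjective f := by
      rintro ⟨x, hx⟩
      obtain ⟨c, hc, rfl⟩ := h4 x hx
      exact ⟨⟨c, hc⟩, rfl⟩
    have h5 : Chain n C₂ := by
      refine chain_tail f hf h (fun N hN hnil x hx => ?_)
      have h6 : x ∈ Cfsg.fittingSubgroup C := Cfsg.Agent.Lib.Cores.le_fittingSubgroup hN hnil hx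
      rw [fitting_eq hA hsol hfix C hC] at h6
      rw [MonoidHom.mem_ker]
      apply Subtype.ext
      exact (QuotientGroup.eq_one_iff _).mpr h6
    have h7 : Chain n (G ⧸ Cfsg.fittingSubgroup G) :=
      ih (G ⧸ Cfsg.fittingSubgroup G) inferInstance h3 C₂ (fun g => Iff.rfl) h5
    exact chain_cons _ Cfsg.Agent.Lib.Cores.fittingSubgroup_isNilpotent h7

end Cfsg.Agent.H542.Height
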