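import Mathlib

/-!
# Dihedral maximal subgroups of a simple group are Sylow normalizers (helper542, for S5906, S5907)
-/

set_option autoImplicit false

namespace Cfsg.Agent.H542.MaxDih

theorem rot_of_odd {n : ℕ} {x : DihedralGroup n} (hx : Odd (orderOf x)) : ∃ i, x = DihedralGroup.r i := by
  cases x with
  | r i => exact ⟨i, rfl⟩
  | sr i =>
    rw [DihedralGroup.orderOf_sr] at hx
    exact absurd hx (by decide)

theorem conj_odd {n : ℕ} {x : DihedralGroup n} (hx : Odd (orderOf x)) (g : DihedralGroup n) :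
    g * x * g⁻¹ = x ∨ g * x * g⁻¹ = x⁻¹ := by
  obtain ⟨i, rfl⟩ := rot_of_odd hx
  cases g with
  | r j =>
    left
    simp [DihedralGroup.r_mul_r]
  | sr j =>
    right
    simp [DihedralGroup.sr_mul_r, DihedralGroup.sr_mul_sr, DihedralGroup.inv_sr, DihedralGroup.inv_r]

variable {G : Type*} [Group G] [Finite G] [IsSimpleGroup G]

/-- a dihedral maximal subgroup of order `2n` and index prime to `r` (`r ∣ n` an odd prime) is the normalizer
of a Sylow `r`-subgroup -/
theorem exists_sylow {n r : ℕ} [hr : Fact r.Prime] (hodd : Odd r) (hrn : r ∣ n)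
    {M : Subgroup G} (hM : IsCoatom M) (hidx : ¬ r ∣ M.index) (e : M ≃* DihedralGroup n) :
    ∃ S : Sylow r G, Subgroup.normalizer ((S : Subgroup G) : Set G) = M := by
  obtain ⟨P⟩ : Nonempty (Sylow r M) := inferInstance
  have hS : IsPGroup r ((P : Subgroup M).map M.subtype) := P.2.map _
  have hind : ¬ r ∣ ((P : Subgroup M).map M.subtype).index := by
    rw [Subgroup.index_map_subtype]
    intro h
    rcases hr.out.dvd_mul.1 h with h | h
    · exact P.not_dvd_index h
    · exact hidx h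
  let S : Sylow r G := hS.toSylow hind
  have hSc : (S : Subgroup G) = (P : Subgroup M).map M.subtype := rfl
  have hSM : (S : Subgroup G) ≤ M := by
    rw [hSc]
    exact Subgroup.map_subtype_le _
  refine ⟨S, ?_⟩
  have hodd' : ∀ x ∈ (P : Subgroup M), Odd (orderOf (e x)) := by
    intro x hx
    obtain ⟨k, hk⟩ := IsPGroup.iff_orderOf.1 P.2 ⟨x, hx⟩
    rw [Subgroup.orderOf_mk] at hk
    rw [MulEquiv.orderOf_eq, hk]
    exact hodd.pow
  have hconj : ∀ g : M, ∀ x ∈ (P : Subgroup M), g * x * g⁻¹ ∈ (P : Subgroup M) := by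
    intro g x hx
    rcases conj_odd (hodd' x hx) (e g) with h | h
    · have h1 : g * x * g⁻¹ = x := e.injective (by rw [map_mul, map_mul, map_inv]; exact h)
      rw [h1]
      exact hx
    · have h1 : g * x * g⁻¹ = x⁻¹ := e.injective (by rw [map_mul, map_mul, map_inv, map_inv]; exact h)
      rw [h1]
      exact (P : Subgroup M).inv_mem hx
  have hle : M ≤ Subgroup.normalizer ((S : Subgroup G) : Set G) := by
    intro g hg
    rw [Subgroup.mem_normalizer_iff]
    have key : ∀ g ∈ M, ∀ x ∈ (S : Subgroup G), g * x * g⁻¹ ∈ (S : Subgroup G) := by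
      intro g hg x hx
      rw [hSc] at hx ⊢
      obtain ⟨y, hy, rfl⟩ := Subgroup.mem_map.1 hx
      exact Subgroup.mem_map.2 ⟨⟨g, hg⟩ * y * ⟨g, hg⟩⁻¹, hconj _ _ hy, rfl⟩
    intro x
    refine ⟨fun hx => key g hg x hx, fun hx => ?_⟩
    have h1 := key g⁻¹ (M.inv_mem hg) _ hx
    have h2 : g⁻¹ * (g * x * g⁻¹) * g⁻¹⁻¹ = x := by group
    rwa [h2] at h1
  rcases eq_or_lt_of_le hle with h | h
  · exact h.symm
  · exfalso
    have hN : (S : Subgroup G).Normal := Subgroup.normalizer_eq_top_iff.1 (hM.2 _ h)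
    rcases hN.eq_bot_or_eq_top with h1 | h1
    · -- then `r` does not divide the order
      have h2 : r ∣ Nat.card G := by
        refine dvd_trans ?_ (Subgroup.card_subgroup_dvd_card M)
        rw [Nat.card_congr e.toEquiv, DihedralGroup.nat_card]
        exact hrn.mul_left 2
      have h3 : ¬ r ∣ (S : Subgroup G).index := S.not_dvd_index
      rw [h1, Subgroup.index_bot] at h3
      exact h3 h2
    · exact hM.1 (top_le_iff.1 (h1 ▸ hSM))

/-- such maximal subgroups are conjugate -/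
theorem conj_of_dihedral {n r : ℕ} [hr : Fact r.Prime] (hodd : Odd r) (hrn : r ∣ n)
    {M M' : Subgroup G} (hM : IsCoatom M) (hM' : IsCoatom M') (hidx : ¬ r ∣ M.index) (hidx' : ¬ r ∣ M'.index)
    (e : M ≃* DihedralGroup n) (e' : M' ≃* DihedralGroup n) :
    ∃ g : G, Subgroup.map (MulAut.conj g).toMonoidHom M = M' := by
  obtain ⟨S, hS⟩ := exists_sylow hodd hrn hM hidx e
  obtain ⟨S', hS'⟩ := exists_sylow hodd hrn hM' hidx' e'
  obtain ⟨g, hg⟩ := MulAction.exists_smul_eq G S S'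
  refine ⟨g, ?_⟩
  rw [← hS, ← hS', ← hg]
  have hmem : ∀ x : G, x ∈ ((g • S : Sylow r G) : Subgroup G) ↔ g⁻¹ * x * g ∈ (S : Subgroup G) := by
    intro x
    rw [Sylow.coe_subgroup_smul, Subgroup.mem_pointwise_smul_iff_inv_smul_mem]
    have : (MulAut.conj g)⁻¹ • x = g⁻¹ * x * g := by
      rw [← map_inv]
      show g⁻¹ * x * g⁻¹⁻¹ = _
      rw [inv_inv]
    rw [this]
  ext x
  rw [Subgroup.mem_map]
  constructor
  · rintro ⟨y, hy, rfl⟩
    rw [Subgroup.mem_normalizer_iff] at hy ⊢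
    intro z
    rw [hmem, hmem]
    have h1 := hy (g⁻¹ * z * g)
    have h2 : g⁻¹ * ((MulAut.conj g).toMonoidHom y * z * ((MulAut.conj g).toMonoidHom y)⁻¹) * g =
        y * (g⁻¹ * z * g) * y⁻¹ := by
      show g⁻¹ * (g * y * g⁻¹ * z * (g * y * g⁻¹)⁻¹) * g = _
      group
    rw [h2]
    exact h1
  · intro hx
    refine ⟨g⁻¹ * x * g, ?_, ?_⟩
    · rw [Subgroup.mem_normalizer_iff] at hx ⊢
      intro z
      have h1 := hx (g * z * g⁻¹)
      rw [hmem, hmem] at h1
      have h2 : g⁻¹ * (g * z * g⁻¹) * g = z := by group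
      have h3 : g⁻¹ * (x * (g * z * g⁻¹) * x⁻¹) * g = g⁻¹ * x * g * z * (g⁻¹ * x * g)⁻¹ := by group
      rw [h2, h3] at h1
      exact h1
    · show g * (g⁻¹ * x * g) * g⁻¹ = x
      group

end Cfsg.Agent.H542.MaxDih
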