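import Cfsg.Agent.H937.Even
import Cfsg.Agent.H940.MaxCls
import Cfsg.Agent.H542.MaxDih
import Cfsg.Agent.S0811
import Cfsg.Agent.S0812
import Cfsg.Agent.S5943

/-!
# Classes of maximal subgroups of `PSL₂(2^f)` (helper542, for S5906, S5907)
-/

set_option autoImplicit false
set_option linter.style.haveILetI false

namespace Cfsg.Agent.H542.MaxEven

open Cfsg.Agent.H937 Cfsg.Agent.H940.MaxCls Cfsg.Agent.H542.MaxDih
open Cfsg.Agent.ClassicalGeometry.PSL2Basic

section

variable {F : Type*} [Field F]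

/-- maximal subgroups of `PGL₂(q)`, `q` even, with the conjugations of `structure_pgl` -/
theorem even_types [Fintype F] (heven : Even (Fintype.card F)) (h4 : 4 ≤ Fintype.card F)
    (M : Subgroup (PGL F)) (hM : M ⋖ ⊤) :
    (∃ b, cj b M = BP F) ∨
    Nonempty (M ≃* DihedralGroup (Fintype.card F - 1)) ∨
    Nonempty (M ≃* DihedralGroup (Fintype.card F + 1)) ∨
    (∃ (k : Subfield F) (r : ℕ), r.Prime ∧ Nat.card k ≠ 2 ∧
        Nat.card F = Nat.card k ^ r ∧ ∃ b, cj b M = PG k) := by
  have h2 : (2 : F) = 0 := by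
    by_contra h
    exact (Nat.not_even_iff_odd.2 ((two_ne_zero_iff_odd F).1 h)) heven
  haveI : CharP F 2 := CharTwo.of_one_ne_zero_of_two_eq_zero one_ne_zero h2
  haveI : Fact (Nat.Prime 2) := ⟨Nat.prime_two⟩
  have hcube := card_PGL_cube (F := F)
  have hdih : ∀ c : PGL F, c ^ 2 ≠ 1 → (∀ h ∈ M, h * c * h⁻¹ ∈ Subgroup.zpowers c) →
      Nonempty (M ≃* DihedralGroup (Fintype.card F - 1)) ∨
      Nonempty (M ≃* DihedralGroup (Fintype.card F + 1)) := by
    intro c hc1 hc2
    obtain ⟨N, hN, n, hn, hN2, -⟩ := torus_case 2 hc1 hc2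
    have hNt : N ≠ ⊤ := by
      intro h
      have h1 : Nat.card N = Nat.card (PGL F) := by
        rw [h]
        exact Nat.card_congr Subgroup.topEquiv.toEquiv
      obtain ⟨e⟩ := hN2
      rw [Nat.card_congr e.toEquiv, DihedralGroup.nat_card] at h1
      rw [← h1] at hcube
      obtain ⟨s, hs⟩ := Nat.exists_eq_add_of_le h4
      have h5 : Fintype.card F - 1 = s + 3 := by omega
      have h6 : (4 + s) ^ 3 = 64 + 48 * s + 12 * s ^ 2 + s ^ 3 := by ring
      rcases hn with rfl | rfl
      · rw [h5, hs, h6] at hcube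
        nlinarith [Nat.zero_le (s ^ 3), Nat.zero_le (s ^ 2)]
      · rw [hs, h6] at hcube
        nlinarith [Nat.zero_le (s ^ 3), Nat.zero_le (s ^ 2)]
    have hMN : M = N := by
      by_contra hne
      exact hM.2 (lt_of_le_of_ne hN hne) (lt_top_iff_ne_top.mpr hNt)
    rw [hMN]
    rcases hn with rfl | rfl
    · exact Or.inl hN2
    · exact Or.inr hN2
  rcases structure_pgl 2 M with ⟨b, hb⟩ | ⟨c, hc, hc1, hc2⟩ | ⟨h1, h3⟩ | ⟨h1, -⟩ | ⟨k, b, hb⟩
  · left
    have hcov : cj b M ⋖ ⊤ := cj_covBy_normal hM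
    have hBt : BP F ≠ ⊤ := by
      intro h
      have h1 : Nat.card (BP F) = Nat.card (PGL F) := by
        rw [h]
        exact Nat.card_congr Subgroup.topEquiv.toEquiv
      rw [card_BP] at h1
      rw [← h1] at hcube
      obtain ⟨s, hs⟩ := Nat.exists_eq_add_of_le h4
      have h5 : Fintype.card F - 1 = s + 3 := by omega
      have h6 : (4 + s) ^ 3 = 64 + 48 * s + 12 * s ^ 2 + s ^ 3 := by ring
      rw [h5, hs, h6] at hcube
      nlinarith [Nat.zero_le (s ^ 3), Nat.zero_le (s ^ 2)]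
    refine ⟨b, ?_⟩
    by_contra hne
    exact hcov.2 (lt_of_le_of_ne hb hne) (lt_top_iff_ne_top.mpr hBt)
  · rcases hdih c hc1 hc2 with h | h
    · exact Or.inr (Or.inl h)
    · exact Or.inr (Or.inr (Or.inl h))
  · exfalso
    apply h1
    rcases h3 with ⟨⟨e⟩⟩ | ⟨⟨e⟩⟩ | ⟨⟨e⟩⟩
    · rw [Nat.card_congr e.toEquiv, card_A4]
      norm_num
    · rw [Nat.card_congr e.toEquiv, card_S4]
      norm_num
    · rw [Nat.card_congr e.toEquiv, card_A5]
      norm_num
  · omega
  · have hk : Even (Nat.card k) := by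
      by_contra h
      rw [Nat.not_even_iff_odd] at h
      have h5 := card_subfield_pow k
      rw [Nat.card_eq_fintype_card (α := F)] at h5
      rw [← h5] at heven
      exact (Nat.not_even_iff_odd.mpr h.pow) heven
    have hb' : cj b M = PG k := by
      rcases hb with h | h
      · rw [h, PS_eq_PG_even hk]
      · exact h
    have hcov : PG k ⋖ ⊤ := by
      rw [← hb']
      exact cj_covBy_normal hM
    by_cases hk2 : Nat.card k = 2
    · obtain ⟨c, hc, hc1, hc2⟩ := exists_c_of_card_two hk2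
      have h7 : ∀ h ∈ M, h * (b⁻¹ * c * b) * h⁻¹ ∈ Subgroup.zpowers (b⁻¹ * c * b) := by
        intro h hh
        have h8 : b * h * b⁻¹ ∈ PG k := by
          rw [← hb', mem_cj]
          have : b⁻¹ * (b * h * b⁻¹) * b = h := by group
          rwa [this]
        obtain ⟨i, hi⟩ := hc2 _ h8
        refine ⟨i, ?_⟩
        show (b⁻¹ * c * b) ^ i = _
        have h9 : (b⁻¹ * c * b) ^ i = b⁻¹ * c ^ i * b := by
          have := conj_zpow (a := b⁻¹) (b := c) (i := i)
          rwa [inv_inv] at this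
        rw [h9]
        have hi' : c ^ i = b * h * b⁻¹ * c * (b * h * b⁻¹)⁻¹ := hi
        rw [hi']
        group
      have h8 : (b⁻¹ * c * b) ^ 2 ≠ 1 := by
        intro h
        apply hc1
        have h9 : (b⁻¹ * c * b) ^ 2 = b⁻¹ * c ^ 2 * b := by
          have := conj_pow (a := b⁻¹) (b := c) (i := 2)
          rwa [inv_inv] at this
        rw [h9] at h
        have h10 : c ^ 2 = b * (b⁻¹ * c ^ 2 * b) * b⁻¹ := by group
        rw [h10, h]
        group
      rcases hdih _ h8 h7 with h | h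
      · exact Or.inr (Or.inl h)
      · exact Or.inr (Or.inr (Or.inl h))
    · right; right; right
      obtain ⟨r, hr, hr'⟩ := prime_of_PG_covBy hcov
      exact ⟨k, r, hr, hk2, hr'.symm, b, hb'⟩

end

/-! ### arithmetic -/

theorem exists_odd_prime {n : ℕ} (h3 : 3 ≤ n) (hodd : Odd n) : ∃ r : ℕ, r.Prime ∧ Odd r ∧ r ∣ n := by
  refine ⟨n.minFac, Nat.minFac_prime (by omega), ?_, Nat.minFac_dvd n⟩
  exact Odd.of_dvd_nat hodd (Nat.minFac_dvd n)

theorem not_dvd_sub {r n i : ℕ} (hr : r.Prime) (hodd : Odd r) (hrn : r ∣ n) (h : 2 * i = (n + 1) * (n + 2)) :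
    ¬ r ∣ i := by
  intro hi
  have h1 : r ∣ (n + 1) * (n + 2) := by
    rw [← h]
    exact hi.mul_left 2
  rcases hr.dvd_mul.1 h1 with h2 | h2
  · have := (Nat.dvd_add_right hrn).1 h2
    exact hr.one_lt.ne' (Nat.dvd_one.1 this)
  · have := (Nat.dvd_add_right hrn).1 h2
    rw [(Nat.prime_dvd_prime_iff_eq hr Nat.prime_two).1 this] at hodd
    exact absurd hodd (by decide)

theorem not_dvd_add {r m i : ℕ} (hr : r.Prime) (hodd : Odd r) (hrn : r ∣ m + 2) (h : 2 * i = (m + 1) * m) :
    ¬ r ∣ i := by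
  intro hi
  have h1 : r ∣ (m + 1) * m := by
    rw [← h]
    exact hi.mul_left 2
  rcases hr.dvd_mul.1 h1 with h2 | h2
  · have : r ∣ 1 := by
      have e : m + 2 = (m + 1) + 1 := rfl
      rw [e] at hrn
      exact (Nat.dvd_add_right h2).1 hrn
    exact hr.one_lt.ne' (Nat.dvd_one.1 this)
  · have := (Nat.dvd_add_right h2).1 hrn
    rw [(Nat.prime_dvd_prime_iff_eq hr Nat.prime_two).1 this] at hodd
    exact absurd hodd (by decide)

section

variable {F : Type*} [Field F] [Fintype F]

/-- `PSL₂ = PGL₂` in even characteristic -/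
noncomputable def eqv (heven : Even (Fintype.card F)) : PSL F ≃* PGL F :=
  MulEquiv.ofBijective (ta : PSL F →* PGL F)
    ⟨ta_injective, MonoidHom.range_eq_top.1 (LL_eq_top_even heven)⟩

theorem simple_PGL (heven : Even (Fintype.card F)) (h4 : 4 ≤ Fintype.card F) : IsSimpleGroup (PGL F) := by
  haveI : IsSimpleGroup (PSL F) :=
    Matrix.ProjectiveSpecialLinearGroup.rank_two_simple (by rw [Nat.card_eq_fintype_card]; omega)
  exact (eqv heven).symm.isSimpleGroup

theorem finite_PGL : Finite (PGL F) := inferInstance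

theorem isCoatom_map_equiv {G H : Type*} [Group G] [Group H] (e : G ≃* H) {A : Subgroup G} (hA : IsCoatom A) :
    IsCoatom (A.map e.toMonoidHom) := (OrderIso.isCoatom_iff e.mapSubgroup A).2 hA

theorem exists_sub (heven : Even (Fintype.card F)) (h4 : 4 ≤ Fintype.card F) :
    ∃ A : Subgroup (PGL F), IsCoatom A ∧ Nonempty (A ≃* DihedralGroup (Fintype.card F - 1)) := by
  obtain ⟨H, hH, ⟨e⟩⟩ := Cfsg.Agent.S0812.result (F := F) rfl (by
    simp only [Finset.mem_insert, Finset.mem_singleton, not_or]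
    refine ⟨by omega, ?_, ?_, ?_, ?_, ?_⟩ <;> (intro h; rw [h] at heven; exact absurd heven (by decide)))
  have hg : Nat.gcd 2 (Fintype.card F - 1) = 1 := by
    have : ¬ 2 ∣ Fintype.card F - 1 := by
      obtain ⟨m, hm⟩ := heven
      omega
    exact (Nat.Prime.coprime_iff_not_dvd Nat.prime_two).2 this
  rw [hg, Nat.div_one] at e
  exact ⟨_, isCoatom_map_equiv (eqv heven) hH,
    ⟨(Subgroup.equivMapOfInjective H _ (eqv heven).injective).symm.trans e⟩⟩

theorem exists_add (heven : Even (Fintype.card F)) (h4 : 4 ≤ Fintype.card F) :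
    ∃ A : Subgroup (PGL F), IsCoatom A ∧ Nonempty (A ≃* DihedralGroup (Fintype.card F + 1)) := by
  obtain ⟨H, hH, ⟨e⟩⟩ := Cfsg.Agent.S0811.result (F := F) rfl (by
    simp only [Finset.mem_insert, Finset.mem_singleton, not_or]
    refine ⟨by omega, ?_, ?_⟩ <;> (intro h; rw [h] at heven; exact absurd heven (by decide)))
  have hg : Nat.gcd 2 (Fintype.card F - 1) = 1 := by
    have : ¬ 2 ∣ Fintype.card F - 1 := by
      obtain ⟨m, hm⟩ := heven
      omega
    exact (Nat.Prime.coprime_iff_not_dvd Nat.prime_two).2 this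
  rw [hg, Nat.div_one] at e
  exact ⟨_, isCoatom_map_equiv (eqv heven) hH,
    ⟨(Subgroup.equivMapOfInjective H _ (eqv heven).injective).symm.trans e⟩⟩

/-- the maximal subgroups `D_{q-1}` form one class -/
theorem conj_sub (heven : Even (Fintype.card F)) (h4 : 4 ≤ Fintype.card F) {M M' : Subgroup (PGL F)}
    (hM : IsCoatom M) (hM' : IsCoatom M') (e : Nonempty (M ≃* DihedralGroup (Fintype.card F - 1)))
    (e' : Nonempty (M' ≃* DihedralGroup (Fintype.card F - 1))) :
    ∃ g : PGL F, Subgroup.map (MulAut.conj g).toMonoidHom M = M' := by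
  haveI := simple_PGL heven h4
  obtain ⟨e⟩ := e
  obtain ⟨e'⟩ := e'
  have hcube := card_PGL_cube (F := F)
  obtain ⟨n, hn⟩ : ∃ n, Fintype.card F = n + 1 := ⟨Fintype.card F - 1, by omega⟩
  have hn1 : Fintype.card F - 1 = n := by omega
  obtain ⟨r, hr, hodd, hrn⟩ := exists_odd_prime (n := n) (by omega) (by
    rw [hn] at heven
    by_contra h
    rw [Nat.not_odd_iff_even] at h
    exact (Nat.not_even_iff_odd.2 h.add_one) heven)
  haveI : Fact r.Prime := ⟨hr⟩
  rw [hn1] at e e'
  rw [hn] at hcube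
  have hidx : ∀ (A : Subgroup (PGL F)), (A ≃* DihedralGroup n) → ¬ r ∣ A.index := by
    intro A eA
    refine not_dvd_sub hr hodd hrn ?_
    have h1 := A.card_mul_index
    rw [Nat.card_congr eA.toEquiv, DihedralGroup.nat_card] at h1
    have h2 : n * (2 * A.index) = n * ((n + 1) * (n + 2)) := by
      have : n * (2 * A.index) = Nat.card (PGL F) := by rw [← h1]; ring
      rw [this]
      have h3 : (n + 1) ^ 3 = n * ((n + 1) * (n + 2)) + (n + 1) := by ring
      omega
    exact Nat.eq_of_mul_eq_mul_left (by omega) h2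
  exact conj_of_dihedral hodd hrn hM hM' (hidx M e) (hidx M' e') e e'

/-- the maximal subgroups `D_{q+1}` form one class -/
theorem conj_add (heven : Even (Fintype.card F)) (h4 : 4 ≤ Fintype.card F) {M M' : Subgroup (PGL F)}
    (hM : IsCoatom M) (hM' : IsCoatom M') (e : Nonempty (M ≃* DihedralGroup (Fintype.card F + 1)))
    (e' : Nonempty (M' ≃* DihedralGroup (Fintype.card F + 1))) :
    ∃ g : PGL F, Subgroup.map (MulAut.conj g).toMonoidHom M = M' := by
  haveI := simple_PGL heven h4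
  obtain ⟨e⟩ := e
  obtain ⟨e'⟩ := e'
  have hcube := card_PGL_cube (F := F)
  obtain ⟨m, hm⟩ : ∃ m, Fintype.card F = m + 1 := ⟨Fintype.card F - 1, by omega⟩
  obtain ⟨r, hr, hodd, hrn⟩ := exists_odd_prime (n := m + 2) (by omega) (by
    rw [hm] at heven
    exact heven.add_one)
  haveI : Fact r.Prime := ⟨hr⟩
  have hm2 : Fintype.card F + 1 = m + 2 := by omega
  rw [hm2] at e e'
  rw [hm] at hcube
  have hidx : ∀ (A : Subgroup (PGL F)), (A ≃* DihedralGroup (m + 2)) → ¬ r ∣ A.index := by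
    intro A eA
    refine not_dvd_add hr hodd hrn ?_
    have h1 := A.card_mul_index
    rw [Nat.card_congr eA.toEquiv, DihedralGroup.nat_card] at h1
    have h2 : (m + 2) * (2 * A.index) = (m + 2) * ((m + 1) * m) := by
      have : (m + 2) * (2 * A.index) = Nat.card (PGL F) := by rw [← h1]; ring
      rw [this]
      have h3 : (m + 1) ^ 3 = (m + 2) * ((m + 1) * m) + (m + 1) := by ring
      omega
    exact Nat.eq_of_mul_eq_mul_left (by omega) h2
  exact conj_of_dihedral hodd hrn hM hM' (hidx M e) (hidx M' e') e e'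

/-! ### sizes -/

theorem card_PG_small {k : Subfield F} {r : ℕ} (hr : r.Prime) (h : Nat.card F = Nat.card k ^ r) :
    Nat.card (PG k) < Fintype.card F * (Fintype.card F - 1) := by
  have hk1 : 1 < Nat.card k := Finite.one_lt_card
  have hc := card_cube k
  rw [Nat.card_eq_fintype_card] at h
  have h2 : Nat.card k ^ 2 ≤ Fintype.card F := by
    rw [h]
    exact Nat.pow_le_pow_right (by omega) hr.two_le
  generalize Nat.card k = a at *
  generalize Fintype.card F = q at *
  have h3 : a * (a * a) < q * (q - 1) + a := by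
    have h4 : a * a ≤ q := by rw [← sq]; exact h2
    have h5 : a * 2 ≤ a * a := Nat.mul_le_mul_left a hk1
    obtain ⟨s, rfl⟩ : ∃ s, q = s + 1 := ⟨q - 1, by omega⟩
    rw [Nat.add_sub_cancel]
    nlinarith
  have h6 : a ^ 3 = a * (a * a) := by ring
  omega

theorem card_PG_ne_dih {k : Subfield F} (heven : Even (Nat.card k)) (hk2 : Nat.card k ≠ 2) {n : ℕ} (hn : Odd n) :
    Nat.card (PG k) ≠ 2 * n := by
  intro h
  have hc := card_cube k
  have hk1 : 1 < Nat.card k := Finite.one_lt_card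
  obtain ⟨b, hb⟩ : 4 ∣ Nat.card k := by
    have h2k : (2 : k) = 0 := by
      letI : Fintype k := Fintype.ofFinite k
      by_contra h
      refine (Nat.not_even_iff_odd.2 ((two_ne_zero_iff_odd k).1 h)) ?_
      rw [← Nat.card_eq_fintype_card]
      exact heven
    haveI : CharP k 2 := CharTwo.of_one_ne_zero_of_two_eq_zero one_ne_zero h2k
    letI : Fintype k := Fintype.ofFinite k
    obtain ⟨m, -, hm⟩ := FiniteField.card k 2
    rw [Nat.card_eq_fintype_card, hm] at hk2 ⊢
    have : 2 ≤ (m : ℕ) := by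
      have h1 := m.pos
      by_contra h2
      have h3 : (m : ℕ) = 1 := by omega
      rw [h3] at hk2
      exact hk2 rfl
    exact pow_dvd_pow 2 this
  rw [h, hb] at hc
  obtain ⟨c, hc'⟩ := hn
  rw [hc'] at hc
  have : (4 * b) ^ 3 = 4 * (16 * b ^ 3) := by ring
  rw [this] at hc
  omega

theorem even_of_pow {k : Subfield F} (heven : Even (Fintype.card F)) : Even (Nat.card k) := by
  by_contra h
  rw [Nat.not_even_iff_odd] at h
  have h5 := card_subfield_pow k
  rw [Nat.card_eq_fintype_card (α := F)] at h5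
  rw [← h5] at heven
  exact (Nat.not_even_iff_odd.mpr h.pow) heven

theorem odd_sub (heven : Even (Fintype.card F)) (h4 : 4 ≤ Fintype.card F) : Odd (Fintype.card F - 1) := by
  obtain ⟨m, hm⟩ := heven
  exact ⟨m - 1, by omega⟩

theorem card_dih {n : ℕ} {M : Subgroup (PGL F)} (e : Nonempty (M ≃* DihedralGroup n)) : Nat.card M = 2 * n := by
  obtain ⟨e⟩ := e
  rw [Nat.card_congr e.toEquiv, DihedralGroup.nat_card]

theorem BP_ne_top (h4 : 4 ≤ Fintype.card F) : BP F ≠ ⊤ := by
  intro h
  have hcube := card_PGL_cube (F := F)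
  have h1 : Nat.card (BP F) = Nat.card (PGL F) := by
    rw [h]
    exact Nat.card_congr Subgroup.topEquiv.toEquiv
  rw [card_BP] at h1
  rw [← h1] at hcube
  obtain ⟨s, hs⟩ := Nat.exists_eq_add_of_le h4
  have h5 : Fintype.card F - 1 = s + 3 := by omega
  have h6 : (4 + s) ^ 3 = 64 + 48 * s + 12 * s ^ 2 + s ^ 3 := by ring
  rw [h5, hs, h6] at hcube
  nlinarith [Nat.zero_le (s ^ 3), Nat.zero_le (s ^ 2)]

theorem dih_lt (h4 : 4 ≤ Fintype.card F) {n : ℕ} (hn : n ≤ Fintype.card F + 1) :
    2 * n < Fintype.card F * (Fintype.card F - 1) := by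
  generalize Fintype.card F = q at *
  obtain ⟨s, rfl⟩ : ∃ s, q = s + 4 := ⟨q - 4, by omega⟩
  have : s + 4 - 1 = s + 3 := by omega
  rw [this]
  nlinarith

theorem isCoatom_BP (heven : Even (Fintype.card F)) (h4 : 4 ≤ Fintype.card F) : IsCoatom (BP F) := by
  obtain ⟨M, hM, hle⟩ := exists_coatom_ge (BP_ne_top h4)
  have hcard : Nat.card (BP F) ≤ Nat.card M := Nat.le_of_dvd Nat.card_pos (Subgroup.card_dvd_of_le hle)
  rw [card_BP] at hcard
  have heq : BP F = M := by
    rcases even_types heven h4 M hM.covBy_top with ⟨b, hb⟩ | h | h | ⟨k, r, hr, -, h1, b, hb⟩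
    · refine Subgroup.eq_of_le_of_card_ge hle ?_
      rw [← hb, card_cj]
    · rw [card_dih h] at hcard
      exact absurd (dih_lt h4 (n := Fintype.card F - 1) (by omega)) (not_lt.2 hcard)
    · rw [card_dih h] at hcard
      exact absurd (dih_lt h4 (n := Fintype.card F + 1) le_rfl) (not_lt.2 hcard)
    · rw [← card_cj b M, hb] at hcard
      exact absurd (card_PG_small hr h1) (not_lt.2 hcard)
  rw [heq]
  exact hM

theorem isCoatom_cj {b : PGL F} {M : Subgroup (PGL F)} (hM : IsCoatom M) : IsCoatom (cj b M) :=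
  (OrderIso.isCoatom_iff ((MulAut.conj b).mapSubgroup) M).2 hM

theorem subfield_eq_of_card {k k' : Subfield F} (h : Nat.card k = Nat.card k') : k = k' :=
  le_antisymm (subfield_le_of_card (a := 1) (by rw [pow_one, h])) (subfield_le_of_card (a := 1) (by rw [pow_one, h]))

theorem isCoatom_PG (heven : Even (Fintype.card F)) (h4 : 4 ≤ Fintype.card F) {k : Subfield F} {r : ℕ}
    (hr : r.Prime) (hk2 : Nat.card k ≠ 2) (h : Nat.card F = Nat.card k ^ r) : IsCoatom (PG k) := by
  have hke : Even (Nat.card k) := even_of_pow heven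
  letI : Fintype k := Fintype.ofFinite k
  obtain ⟨H, hH, ⟨e⟩⟩ := Cfsg.Agent.S5943.result (F := F) (K := k) (Nat.card k) r
    (Nat.card_eq_fintype_card).symm (by rw [← h, Nat.card_eq_fintype_card]) hke hk2 hr
  have hM := isCoatom_map_equiv (eqv heven) hH
  have hcard : Nat.card (H.map (eqv heven).toMonoidHom) = Nat.card (PG k) := by
    rw [← PS_eq_PG_even hke, card_PS]
    exact (Nat.card_congr (Subgroup.equivMapOfInjective H _ (eqv heven).injective).toEquiv).symm.trans
      (Nat.card_congr e.toEquiv)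
  rcases even_types heven h4 _ hM.covBy_top with ⟨b, hb⟩ | h' | h' | ⟨k', r', hr', -, h1, b, hb⟩
  · exfalso
    have h3 := card_PG_small hr h
    rw [← hcard, ← card_cj b, hb, card_BP] at h3
    exact lt_irrefl _ h3
  · exfalso
    rw [card_dih h'] at hcard
    exact card_PG_ne_dih hke hk2 (odd_sub heven h4) hcard.symm
  · exfalso
    rw [card_dih h'] at hcard
    exact card_PG_ne_dih hke hk2 heven.add_one hcard.symm
  · have h3 : Nat.card k = Nat.card k' := by
      rw [← card_cj b, hb] at hcard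
      rcases lt_trichotomy (Nat.card k) (Nat.card k') with h4 | h4 | h4
      · exact absurd hcard (card_PG_lt h4).ne'
      · exact h4
      · exact absurd hcard (card_PG_lt h4).ne
    rw [subfield_eq_of_card h3, ← hb]
    exact isCoatom_cj hM

end

section main

variable {F : Type*} [Field F] [Fintype F]

/-- the conclusion of `even_types` for maximal subgroups, against fixed representatives -/
theorem types_conj (heven : Even (Fintype.card F)) (h4 : 4 ≤ Fintype.card F) {A B : Subgroup (PGL F)}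
    (hA : IsCoatom A) (hB : IsCoatom B) (eA : Nonempty (A ≃* DihedralGroup (Fintype.card F - 1)))
    (eB : Nonempty (B ≃* DihedralGroup (Fintype.card F + 1))) {K : Subgroup (PGL F)} (hK : IsCoatom K) :
    (∃ g : PGL F, Subgroup.map (MulAut.conj g).toMonoidHom (BP F) = K) ∨
    (∃ g : PGL F, Subgroup.map (MulAut.conj g).toMonoidHom A = K) ∨
    (∃ g : PGL F, Subgroup.map (MulAut.conj g).toMonoidHom B = K) ∨
    (∃ (k : Subfield F) (r : ℕ), r.Prime ∧ Nat.card k ≠ 2 ∧ Nat.card F = Nat.card k ^ r ∧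
      ∃ g : PGL F, Subgroup.map (MulAut.conj g).toMonoidHom (PG k) = K) := by
  rcases even_types heven h4 K hK.covBy_top with ⟨b, hb⟩ | h | h | ⟨k, r, hr, h1, h2, b, hb⟩
  · left
    refine ⟨b⁻¹, ?_⟩
    rw [← hb]
    exact cj_inv_cj b K
  · exact Or.inr (Or.inl (conj_sub heven h4 hA hK eA h))
  · exact Or.inr (Or.inr (Or.inl (conj_add heven h4 hB hK eB h)))
  · right; right; right
    refine ⟨k, r, hr, h1, h2, b⁻¹, ?_⟩
    rw [← hb]
    exact cj_inv_cj b K

theorem ne_of_card {G : Type*} [Group G] {A B : Subgroup G} (h : Nat.card A ≠ Nat.card B) (g : G) :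
    Subgroup.map (MulAut.conj g).toMonoidHom A ≠ B := by
  intro h1
  apply h
  rw [← h1, card_map_conj]

variable (heven : Even (Fintype.card F)) (h4 : 4 ≤ Fintype.card F)

include heven h4

theorem exists_three : ∃ A B : Subgroup (PGL F), IsCoatom A ∧ IsCoatom B ∧
    Nonempty (A ≃* DihedralGroup (Fintype.card F - 1)) ∧ Nonempty (B ≃* DihedralGroup (Fintype.card F + 1)) ∧
    Nat.card A < Nat.card B ∧ Nat.card B < Nat.card (BP F) := by
  obtain ⟨A, hA, eA⟩ := exists_sub heven h4
  obtain ⟨B, hB, eB⟩ := exists_add heven h4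
  refine ⟨A, B, hA, hB, eA, eB, ?_, ?_⟩
  · rw [card_dih eA, card_dih eB]
    omega
  · rw [card_dih eB, card_BP]
    exact dih_lt h4 le_rfl

/-- no subfield of prime index and order `> 2` : three classes -/
theorem cls_three (hno : ∀ (k : Subfield F) (r : ℕ), r.Prime → Nat.card F = Nat.card k ^ r → Nat.card k = 2) :
    Cls 3 (PGL F) := by
  obtain ⟨A, B, hA, hB, eA, eB, h1, h2⟩ := exists_three heven h4
  have hP := isCoatom_BP heven h4
  refine Cls.of_mem ![BP F, A, B] ?_ ?_ ?_
  · intro i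
    fin_cases i
    · exact hP
    · exact hA
    · exact hB
  · intro i j hij g
    fin_cases i <;> fin_cases j <;> first
      | exact absurd hij (by decide)
      | exact ne_of_card (by simp; omega) g
  · intro K hK
    rcases types_conj heven h4 hA hB eA eB hK with h | h | h | ⟨k, r, hr, h3, h5, -⟩
    · exact ⟨0, h⟩
    · exact ⟨1, h⟩
    · exact ⟨2, h⟩
    · exact absurd (hno k r hr h5) h3

theorem card_PG_facts {k : Subfield F} {r : ℕ} (hr : r.Prime) (hk2 : Nat.card k ≠ 2)
    (h : Nat.card F = Nat.card k ^ r) {A B : Subgroup (PGL F)}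
    (eA : Nonempty (A ≃* DihedralGroup (Fintype.card F - 1)))
    (eB : Nonempty (B ≃* DihedralGroup (Fintype.card F + 1))) :
    Nat.card (PG k) ≠ Nat.card (BP F) ∧ Nat.card (PG k) ≠ Nat.card A ∧ Nat.card (PG k) ≠ Nat.card B := by
  refine ⟨?_, ?_, ?_⟩
  · rw [card_BP]
    exact (card_PG_small hr h).ne
  · rw [card_dih eA]
    exact card_PG_ne_dih (even_of_pow heven) hk2 (odd_sub heven h4)
  · rw [card_dih eB]
    exact card_PG_ne_dih (even_of_pow heven) hk2 heven.add_one

/-- exactly one subfield of prime index and order `> 2` : four classes -/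
theorem cls_four {k : Subfield F} {r : ℕ} (hr : r.Prime) (hk2 : Nat.card k ≠ 2) (h : Nat.card F = Nat.card k ^ r)
    (huniq : ∀ (k' : Subfield F) (r : ℕ), r.Prime → Nat.card k' ≠ 2 → Nat.card F = Nat.card k' ^ r →
      Nat.card k' = Nat.card k) : Cls 4 (PGL F) := by
  obtain ⟨A, B, hA, hB, eA, eB, h1, h2⟩ := exists_three heven h4
  have hP := isCoatom_BP heven h4
  have hK := isCoatom_PG heven h4 hr hk2 h
  obtain ⟨f1, f2, f3⟩ := card_PG_facts heven h4 hr hk2 h eA eB
  refine Cls.of_mem ![BP F, A, B, PG k] ?_ ?_ ?_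
  · intro i
    fin_cases i
    · exact hP
    · exact hA
    · exact hB
    · exact hK
  · intro i j hij g
    fin_cases i <;> fin_cases j <;> first
      | exact absurd hij (by decide)
      | exact ne_of_card (by simp; omega) g
  · intro K hK
    rcases types_conj heven h4 hA hB eA eB hK with h | h | h | ⟨k', r', hr', h3, h5, h6⟩
    · exact ⟨0, h⟩
    · exact ⟨1, h⟩
    · exact ⟨2, h⟩
    · have h7 := huniq k' r' hr' h3 h5
      rw [subfield_eq_of_card h7] at h6
      exact ⟨3, h6⟩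

/-- two subfields of prime index and different orders `> 2` : at least five classes -/
theorem sep_five' {k k' : Subfield F} {r r' : ℕ} (hr : r.Prime) (hk2 : Nat.card k ≠ 2)
    (h : Nat.card F = Nat.card k ^ r) (hr' : r'.Prime) (hk2' : Nat.card k' ≠ 2)
    (h' : Nat.card F = Nat.card k' ^ r') (hne : Nat.card k < Nat.card k') : Sep 5 (PGL F) := by
  obtain ⟨A, B, hA, hB, eA, eB, h1, h2⟩ := exists_three heven h4
  have hP := isCoatom_BP heven h4
  have hK := isCoatom_PG heven h4 hr hk2 h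
  have hK' := isCoatom_PG heven h4 hr' hk2' h'
  obtain ⟨f1, f2, f3⟩ := card_PG_facts heven h4 hr hk2 h eA eB
  obtain ⟨g1, g2, g3⟩ := card_PG_facts heven h4 hr' hk2' h' eA eB
  have hlt := card_PG_lt hne
  refine sep_of_coatoms ![BP F, A, B, PG k, PG k'] ?_ ?_
  · intro i
    fin_cases i
    · exact hP
    · exact hA
    · exact hB
    · exact hK
    · exact hK'
  · intro i j hij g
    fin_cases i <;> fin_cases j <;> first
      | exact absurd hij (by decide)
      | exact ne_of_card (by simp; omega) g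

end main

section final

variable {F : Type} [Field F] [Fintype F]

theorem even_three {r : ℕ} (hr : r.Prime) (hF : Fintype.card F = 2 ^ r) :
    Cls 3 (Matrix.ProjectiveSpecialLinearGroup (Fin 2) F) := by
  have heven : Even (Fintype.card F) := by
    rw [hF]
    exact (Nat.even_pow.2 ⟨even_two, hr.ne_zero⟩)
  have h4 : 4 ≤ Fintype.card F := by
    rw [hF]
    calc 4 = 2 ^ 2 := rfl
      _ ≤ 2 ^ r := Nat.pow_le_pow_right (by norm_num) hr.two_le
  refine (cls_three heven h4 ?_).of_mulEquiv (eqv heven).symm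
  intro k s hs h
  rw [Nat.card_eq_fintype_card, hF] at h
  obtain ⟨a, -, ha⟩ := (Nat.dvd_prime_pow Nat.prime_two).1
    (⟨Nat.card k ^ (s - 1), by rw [h, ← pow_succ', Nat.sub_add_cancel hs.one_lt.le]⟩ : Nat.card k ∣ 2 ^ r)
  rw [ha, ← pow_mul] at h
  have h1 : r = a * s := Nat.pow_right_injective le_rfl h
  have h2 : a = 1 := by
    rcases (Nat.dvd_prime hr).1 (⟨s, h1⟩ : a ∣ r) with h2 | h2
    · exact h2
    · exfalso
      rw [h2] at h1
      have h3 := Nat.eq_of_mul_eq_mul_left hr.pos (h1.symm.trans (mul_one r).symm)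
      exact hs.one_lt.ne' h3
  rw [ha, h2, pow_one]

theorem even_four {r m : ℕ} (hr : r.Prime) (hm : 2 ≤ m) (hF : Fintype.card F = 2 ^ (r ^ m)) :
    Cls 4 (Matrix.ProjectiveSpecialLinearGroup (Fin 2) F) := by
  haveI : Fact (Nat.Prime 2) := ⟨Nat.prime_two⟩
  have hrm : 2 ≤ r ^ m := hr.two_le.trans (Nat.le_self_pow (by omega) r)
  have heven : Even (Fintype.card F) := by
    rw [hF]
    exact (Nat.even_pow.2 ⟨even_two, by omega⟩)
  have h4 : 4 ≤ Fintype.card F := by
    rw [hF]
    calc 4 = 2 ^ 2 := rfl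
      _ ≤ 2 ^ (r ^ m) := Nat.pow_le_pow_right (by norm_num) hrm
  have hm1 : r ^ m = r ^ (m - 1) * r := by rw [← pow_succ, Nat.sub_add_cancel (by omega)]
  have hcF : Nat.card F = (2 ^ (r ^ (m - 1))) ^ r := by
    rw [Nat.card_eq_fintype_card, hF, ← pow_mul, hm1]
  obtain ⟨k, hk⟩ := exists_subfield_card (p := 2) (n := r ^ (m - 1)) (pow_ne_zero _ hr.ne_zero) hcF
  have hk2 : Nat.card k ≠ 2 := by
    rw [hk]
    intro h
    have h1 : r ^ (m - 1) = 1 := Nat.pow_right_injective le_rfl
      (show (2 : ℕ) ^ r ^ (m - 1) = 2 ^ 1 by rw [pow_one]; exact h)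
    have h2 : 2 ≤ r ^ (m - 1) := hr.two_le.trans (Nat.le_self_pow (by omega) r)
    omega
  refine (cls_four heven h4 hr hk2 (by rw [hk]; exact hcF) ?_).of_mulEquiv (eqv heven).symm
  intro k' s hs hk2' h
  rw [Nat.card_eq_fintype_card, hF] at h
  obtain ⟨a, -, ha⟩ := (Nat.dvd_prime_pow Nat.prime_two).1
    (⟨Nat.card k' ^ (s - 1), by rw [h, ← pow_succ', Nat.sub_add_cancel hs.one_lt.le]⟩ :
      Nat.card k' ∣ 2 ^ (r ^ m))
  rw [ha, ← pow_mul] at h
  have h1 : r ^ m = a * s := Nat.pow_right_injective le_rfl h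
  have h2 : s = r := by
    have : s ∣ r ^ m := ⟨a, by rw [h1, mul_comm]⟩
    exact (Nat.prime_dvd_prime_iff_eq hs hr).1 (hs.dvd_of_dvd_pow this)
  rw [h2, hm1] at h1
  have h3 : r ^ (m - 1) = a := Nat.eq_of_mul_eq_mul_right hr.pos h1
  rw [ha, hk, h3]

theorem even_five {f : ℕ} (hF : Fintype.card F = 2 ^ f) (hf : 2 ≤ f)
    (h : ¬ ∃ r m : ℕ, r.Prime ∧ 1 ≤ m ∧ f = r ^ m) :
    Sep 5 (Matrix.ProjectiveSpecialLinearGroup (Fin 2) F) := by
  haveI : Fact (Nat.Prime 2) := ⟨Nat.prime_two⟩
  have heven : Even (Fintype.card F) := by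
    rw [hF]
    exact (Nat.even_pow.2 ⟨even_two, by omega⟩)
  have h4 : 4 ≤ Fintype.card F := by
    rw [hF]
    calc 4 = 2 ^ 2 := rfl
      _ ≤ 2 ^ f := Nat.pow_le_pow_right (by norm_num) hf
  -- two primes dividing `f`
  have hr : f.minFac.Prime := Nat.minFac_prime (by omega)
  set r := f.minFac with hrdef
  obtain ⟨s, hs, hsf, hne⟩ : ∃ s, s.Prime ∧ s ∣ f ∧ s ≠ r := by
    by_contra hc
    push Not at hc
    apply h
    have h1 : f = r ^ (f.primeFactorsList.length) := by
      apply Nat.eq_prime_pow_of_unique_prime_dvd (by omega)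
      intro d hd hdf
      exact hc d hd hdf
    refine ⟨r, f.primeFactorsList.length, hr, ?_, h1⟩
    by_contra h2
    rw [show f.primeFactorsList.length = 0 by omega, pow_zero] at h1
    omega
  have main : ∀ d : ℕ, d.Prime → d ∣ f → ∃ k : Subfield F, Nat.card k = 2 ^ (f / d) ∧ Nat.card k ≠ 2 ∧
      Nat.card F = Nat.card k ^ d := by
    intro d hd hdf
    have hfd : f / d * d = f := Nat.div_mul_cancel hdf
    have hcF : Nat.card F = (2 ^ (f / d)) ^ d := by
      rw [Nat.card_eq_fintype_card, hF, ← pow_mul, hfd]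
    have hfd0 : f / d ≠ 0 := by
      intro h0
      rw [h0, zero_mul] at hfd
      omega
    obtain ⟨k, hk⟩ := exists_subfield_card (p := 2) (n := f / d) hfd0 hcF
    refine ⟨k, hk, ?_, by rw [hk]; exact hcF⟩
    rw [hk]
    intro h2
    have h1 : f / d = 1 := Nat.pow_right_injective le_rfl
      (show (2 : ℕ) ^ (f / d) = 2 ^ 1 by rw [pow_one]; exact h2)
    rw [h1, one_mul] at hfd
    exact h ⟨d, 1, hd, le_rfl, by rw [pow_one, hfd]⟩
  obtain ⟨k, hk, hk2, hkF⟩ := main r hr (Nat.minFac_dvd f)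
  obtain ⟨k', hk', hk2', hkF'⟩ := main s hs hsf
  have hcne : Nat.card k ≠ Nat.card k' := by
    rw [hk, hk']
    intro h1
    have h2 : f / r = f / s := Nat.pow_right_injective le_rfl h1
    have h3 : f / r * r = f := Nat.div_mul_cancel (Nat.minFac_dvd f)
    have h5 : f / s * s = f := Nat.div_mul_cancel hsf
    rw [h2] at h3
    have h6 : f / s ≠ 0 := by
      intro h0
      rw [h0, zero_mul] at h5
      omega
    exact hne (Nat.eq_of_mul_eq_mul_left (Nat.pos_of_ne_zero h6) (h5.trans h3.symm))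
  rcases lt_or_gt_of_ne hcne with h1 | h1
  · exact (sep_five' heven h4 hr hk2 hkF hs hk2' hkF' h1).of_mulEquiv (eqv heven).symm
  · exact (sep_five' heven h4 hs hk2' hkF' hr hk2 hkF h1).of_mulEquiv (eqv heven).symm

end final

end Cfsg.Agent.H542.MaxEven
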