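import Cfsg.Agent.H120.SLHom
import Cfsg.Agent.H92.ExcSL2
import Cfsg.Agent.S1031

/-!
# Elements of order `9` in exceptional groups (helper542, for S3456)

* `wreath_order` : the wreath trick;
* `hom_of_table` : `SL_{m+1}(F)` in a Chevalley group from a root table;
* `Mz` : an element of `SL₆(ℤ)` of order 9.
-/

set_option autoImplicit false
set_option linter.unusedSectionVars false

namespace Cfsg.Agent.H542.NineTools

open Matrix Cfsg.Lie Cfsg.Agent.ChevalleyStructure Cfsg.Agent.ChevalleyStructure.Elts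
  Cfsg.Agent.TitsThree.KExcBase Cfsg.Agent.TitsThree.KExcRT Cfsg.Agent.AGraded Cfsg.Agent.H92.ExcSL2
open Cfsg.Agent.ChevalleyStructure.SL2Hom (up lo)

universe u

/-! ### abstract -/

/-- `9 ∣ o(x)`, `o(x) ≠ 9` -/
def Nine (G : Type*) [Group G] : Prop := ∃ x : G, 9 ∣ orderOf x ∧ orderOf x ≠ 9

theorem nine_of_comm {G : Type*} [Group G] {y u : G} (hy : orderOf y = 9) {p : ℕ} (hp : p.Prime) (hp3 : p ≠ 3)
    (hu : orderOf u = p) (h : Commute y u) : Nine G := by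
  have hc : Nat.Coprime (orderOf y) (orderOf u) := by
    rw [hy, hu]
    have : Nat.Coprime 3 p := (Nat.coprime_primes Nat.prime_three hp).2 (Ne.symm hp3)
    exact (show (9 : ℕ) = 3 ^ 2 by norm_num) ▸ Nat.Coprime.pow_left 2 this
  have h1 := h.orderOf_mul_eq_mul_orderOf_of_coprime hc
  refine ⟨y * u, ?_, ?_⟩
  · rw [h1, hy]
    exact dvd_mul_right _ _
  · rw [h1, hy, hu]
    have := hp.one_lt
    omega

theorem orderOf_nine {G : Type*} [Group G] {y : G} (h9 : y ^ 9 = 1) (h3 : y ^ 3 ≠ 1) : orderOf y = 9 := by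
  have := Fact.mk Nat.prime_three
  have := orderOf_eq_prime_pow (x := y) (p := 3) (n := 1) (by simpa using h3) (by simpa using h9)
  simpa using this

/-- three commuting conjugates -/
theorem wreath_order {A G : Type*} [Group A] [Group G] (ψ : A →* G) {n : G} (hn : n ^ 3 = 1)
    (hc : ∀ x y, Commute (ψ x) (n * ψ y * n⁻¹)) {a : A} (ha : a ^ 3 = 1)
    (hne : ∃ b, ψ a * ψ b ≠ ψ b * ψ a) : orderOf (ψ a * n) = 9 := by
  have hn2 : n * n = n⁻¹ := by
    rw [eq_inv_iff_mul_eq_one, ← hn, pow_succ, pow_two]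
  have hc' : ∀ x y, Commute (n⁻¹ * ψ x * n) (ψ y) := by
    intro x y
    have h1 := (hc x y).eq
    have h2 : n⁻¹ * (ψ x * (n * ψ y * n⁻¹)) * n = n⁻¹ * (n * ψ y * n⁻¹ * ψ x) * n := by rw [h1]
    show n⁻¹ * ψ x * n * ψ y = ψ y * (n⁻¹ * ψ x * n)
    calc n⁻¹ * ψ x * n * ψ y = n⁻¹ * (ψ x * (n * ψ y * n⁻¹)) * n := by group
      _ = n⁻¹ * (n * ψ y * n⁻¹ * ψ x) * n := h2
      _ = ψ y * (n⁻¹ * ψ x * n) := by group
  obtain ⟨A0, hA0⟩ : ∃ A0, A0 = ψ a := ⟨_, rfl⟩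
  obtain ⟨A1, hA1⟩ : ∃ A1, A1 = n * ψ a * n⁻¹ := ⟨_, rfl⟩
  obtain ⟨A2, hA2⟩ : ∃ A2, A2 = n⁻¹ * ψ a * n := ⟨_, rfl⟩
  have c01 : Commute A0 A1 := by rw [hA0, hA1]; exact hc a a
  have c02 : Commute A0 A2 := by rw [hA0, hA2]; exact (hc' a a).symm
  have c12 : Commute A1 A2 := by
    have h1 := c01.eq
    rw [hA0, hA1] at h1
    show A1 * A2 = A2 * A1
    have e2 : A2 = n * (n * ψ a * n⁻¹) * n⁻¹ := by
      rw [hA2]
      calc n⁻¹ * ψ a * n = (n * n) * ψ a * (n * n)⁻¹ := by rw [hn2, inv_inv]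
        _ = n * (n * ψ a * n⁻¹) * n⁻¹ := by group
    rw [e2, hA1]
    calc n * ψ a * n⁻¹ * (n * (n * ψ a * n⁻¹) * n⁻¹) = n * (ψ a * (n * ψ a * n⁻¹)) * n⁻¹ := by group
      _ = n * (n * ψ a * n⁻¹ * ψ a) * n⁻¹ := by rw [h1]
      _ = n * (n * ψ a * n⁻¹) * n⁻¹ * (n * ψ a * n⁻¹) := by group
  have hcube : (ψ a * n) ^ 3 = A0 * A1 * A2 := by
    rw [hA0, hA1, hA2]
    calc (ψ a * n) ^ 3 = ψ a * (n * ψ a * n⁻¹) * ((n * n) * ψ a * n) := by
          rw [pow_succ, pow_two]; group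
      _ = ψ a * (n * ψ a * n⁻¹) * (n⁻¹ * ψ a * n) := by rw [hn2]
  have h0 : A0 ^ 3 = 1 := by rw [hA0, ← map_pow, ha, map_one]
  have h1 : A1 ^ 3 = 1 := by
    rw [hA1, conj_pow, ← map_pow, ha, map_one, mul_one, mul_inv_cancel]
  have h2 : A2 ^ 3 = 1 := by
    have h := conj_pow (i := 3) (a := n⁻¹) (b := ψ a)
    rw [inv_inv] at h
    rw [hA2, h, ← map_pow, ha, map_one, mul_one, inv_mul_cancel]
  refine orderOf_nine ?_ ?_
  · have e : (ψ a * n) ^ 9 = ((ψ a * n) ^ 3) ^ 3 := by rw [← pow_mul]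
    rw [e, hcube, ((c02.mul_left c12).mul_pow), c01.mul_pow, h0, h1, h2, one_mul, one_mul]
  · rw [hcube]
    intro h
    obtain ⟨b, hb⟩ := hne
    apply hb
    have e0 : ψ a = (A1 * A2)⁻¹ := by
      rw [← hA0, eq_inv_iff_mul_eq_one, ← mul_assoc, h]
    have d1 : Commute (ψ b) A1 := by rw [hA1]; exact hc b a
    have d2 : Commute (ψ b) A2 := by rw [hA2]; exact (hc' a b).symm
    have d3 : Commute (ψ b) ((A1 * A2)⁻¹) := (d1.mul_right d2).inv_right
    rw [← e0] at d3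
    exact d3.eq.symm

/-! ### homomorphisms from tables -/

section Table

variable {D : ChevalleyDatum} (hD : InList D) {F : Type u} [Field F] [Finite F]

theorem fin01 {m : ℕ} (hm : 2 ≤ m) : (0 : Fin (m + 1)) ≠ 1 := by
  obtain ⟨k, rfl⟩ : ∃ k, m = k + 1 := ⟨m - 1, by omega⟩
  exact Fin.zero_ne_one

theorem hom_of_table {m : ℕ} (hm : 2 ≤ m) {r : Fin (m + 1) → Fin (m + 1) → ℕ}
    {s : Fin (m + 1) → Fin (m + 1) → ℤ} (ha : RTa D r) (hb : RTb D r s) (hc : RTc D r) (hd : RTd s) :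
    ∃ π : SpecialLinearGroup (Fin (m + 1)) F →* ↥(D.group F),
      (∀ i j (hij : i ≠ j) a, ((π (SpecialLinearGroup.transvection hij a) : ↥(D.group F)) : GL D.Idx F) =
        xG hD (r i j) ((s i j : F) * a)) ∧
      π.ker ≤ Subgroup.center (SpecialLinearGroup (Fin (m + 1)) F) := by
  classical
  have : Nontrivial (Fin (m + 1)) := ⟨0, 1, fin01 hm⟩
  have hS := stein (F := F) hD ha hb hc hd
  obtain ⟨π, hπ, _, hker⟩ := Cfsg.Agent.H120.SLHom.exists_hom (m := m) hm hS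
  have hmem : ∀ g, π g ∈ D.group F := by
    intro g
    refine Cfsg.Agent.LieClassical.SLGen.transvection_induction (fun g => π g ∈ D.group F) ?_ ?_ g
    · intro i j hij c
      rw [hπ i j hij]
      exact xG_mem_group hD _ _
    · intro A B hA hB
      rw [map_mul]
      exact mul_mem hA hB
  refine ⟨π.codRestrict (D.group F) hmem, fun i j hij a => hπ i j hij a, ?_⟩
  intro g hg
  have h01 : (0 : Fin (m + 1)) ≠ 1 := fin01 hm
  refine hker ⟨0, 1, h01, ((s 0 1 : ℤ) : F), ?_⟩ ?_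
  · intro h
    have h1 := (xG_eq_one_iff hD (ha 0 1 h01) _).1 h
    rw [← Int.cast_mul, hd, Int.cast_one] at h1
    exact one_ne_zero h1
  · exact congrArg Subtype.val hg

/-- root elements orthogonal to the table commute with the image -/
theorem commute_image {m : ℕ} (hm : 2 ≤ m) {r : Fin (m + 1) → Fin (m + 1) → ℕ}
    {s : Fin (m + 1) → Fin (m + 1) → ℤ} (ha : RTa D r) {π : SpecialLinearGroup (Fin (m + 1)) F →* ↥(D.group F)}
    (hπ : ∀ i j (hij : i ≠ j) a, ((π (SpecialLinearGroup.transvection hij a) : ↥(D.group F)) : GL D.Idx F) =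
        xG hD (r i j) ((s i j : F) * a)) {r0 : ℕ} (hr0 : r0 < D.nroots)
    (ho : ∀ i j, i ≠ j → OrthB D (r i j) r0 = true) (g : SpecialLinearGroup (Fin (m + 1)) F) (c : F) :
    Commute ((π g : ↥(D.group F)) : GL D.Idx F) (xG hD r0 c) := by
  have : Nontrivial (Fin (m + 1)) := ⟨0, 1, fin01 hm⟩
  refine Cfsg.Agent.LieClassical.SLGen.transvection_induction
    (fun g => Commute ((π g : ↥(D.group F)) : GL D.Idx F) (xG hD r0 c)) ?_ ?_ g
  · intro i j hij a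
    rw [hπ i j hij]
    exact xG_commute hD (ha i j hij) hr0 (ho i j hij) _ _
  · intro A B hA hB
    rw [map_mul]
    exact hA.mul_left hB

end Table

/-! ### an element of order 9 of `SL₆(ℤ)` -/

/-- transvection, integral -/
def T (i j : Fin 6) (h : i ≠ j) (c : ℤ) : SpecialLinearGroup (Fin 6) ℤ := SpecialLinearGroup.transvection h c

/-- an element of order 9 -/
def Mz : SpecialLinearGroup (Fin 6) ℤ :=
  (T 2 3 (by decide) 1 * T 3 2 (by decide) (-1) * T 2 3 (by decide) 1 * T 2 3 (by decide) 1) *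
  (T 0 1 (by decide) 1 * T 4 5 (by decide) 1) * (T 1 0 (by decide) (-1) * T 5 4 (by decide) (-1)) *
  (T 0 1 (by decide) 1 * T 4 5 (by decide) 1) * (T 1 2 (by decide) 1 * T 3 4 (by decide) 1) *
  (T 2 1 (by decide) (-1) * T 4 3 (by decide) (-1)) * (T 1 2 (by decide) 1 * T 3 4 (by decide) 1)

theorem Mz_pow : Mz ^ 9 = 1 := by decide +kernel

theorem Mz_cube : (Mz ^ 3).1 2 3 ≠ 0 ∧ ((Mz ^ 3).1 2 3 = 1 ∨ (Mz ^ 3).1 2 3 = -1) := by decide +kernel

end Cfsg.Agent.H542.NineTools
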