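import Cfsg.Agent.H402.Rec.Cand

/-!
# Recognition of `PSL_4(3 ^ k)`, `PSU_4(3 ^ k)`: common facts for the exceptional rows (helper542)
-/

set_option autoImplicit false

namespace Cfsg.Agent.H542.RecCom

open Cfsg.Agent.H402.Rec

variable {e : Bool} {k : ℕ} {T : Type*} [Group T]

/-- Elements of order divisible by 3. -/
theorem of_three (h : Cand3 e k T) {y : T} (hy : 3 ∣ orderOf y) :
    orderOf y ∣ 3 * ((3 ^ k) ^ 2 - 1) ∨ orderOf y = 9 := by
  rcases h.spec y with h1 | h1 | h1 | h1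
  · exact absurd (hy.trans h1) h.three_N3
  · exact absurd (hy.trans h1) h.three_N4
  · exact Or.inl h1
  · exact Or.inr h1

/-- The primes of `R3` and `R4` are not joined to 3. -/
theorem not_three (h : Cand3 e k T) {r : ℕ} (hr : r.Prime) (hrd : r ∣ R3 e (3 ^ k) ∨ r ∣ R4 (3 ^ k)) {y : T}
    (hy : r ∣ orderOf y) : ¬ 3 ∣ orderOf y := by
  intro h3
  rcases hrd with h1 | h1
  · exact h.three_N3 (h3.trans (h.absA hr h1 hy))
  · exact h.three_N4 (h3.trans (h.absB hr h1 hy))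

/-- `R3` and `R4` are large. -/
theorem le_R (h : Cand3 e k T) {R : ℕ} (hR : R = R3 e (3 ^ k) ∨ R = R4 (3 ^ k)) : (3 ^ k) ^ 2 + 1 ≤ 2 * R := by
  have h1 := h.three_le
  rcases hR with rfl | rfl
  · set q := 3 ^ k
    have h2 : 3 * q ≤ q ^ 2 := by rw [pow_two]; exact Nat.mul_le_mul_right _ h1
    cases e
    · show q ^ 2 + 1 ≤ 2 * (q ^ 2 - q + 1)
      omega
    · show q ^ 2 + 1 ≤ 2 * (q ^ 2 + q + 1)
      omega
  · rw [two_R4 h.odd]

/-- `R3` or `R4` is the order of an element. -/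
theorem exists_R (h : Cand3 e k T) : ∃ R : ℕ, (R = R3 e (3 ^ k) ∨ R = R4 (3 ^ k)) ∧ ∃ x : T, orderOf x = R := by
  rcases h.alt with ⟨h1, -⟩ | ⟨-, h1 | h1⟩
  · exact ⟨_, Or.inl rfl, h1⟩
  · exact ⟨_, Or.inl rfl, h1⟩
  · exact ⟨_, Or.inr rfl, h1⟩

/-- 8 divides `q² - 1`. -/
theorem eight (h : Cand3 e k T) : 8 ∣ (3 ^ k) ^ 2 - 1 := by
  have h1 := sq_mod_eight h.odd
  omega

/-- Odd element orders divisible by 3. -/
theorem eight_mul (h : Cand3 e k T) {y : T} {n : ℕ} (hn : orderOf y = n) (h3 : 3 ∣ n) (h2 : n % 2 = 1) (h9 : n ≠ 9) :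
    8 * n ≤ 3 * ((3 ^ k) ^ 2 - 1) := by
  have hq := h.three_le
  have hq2 : 3 * 3 ^ k ≤ (3 ^ k) ^ 2 := by rw [pow_two]; exact Nat.mul_le_mul_right _ hq
  rcases of_three h (y := y) (by rw [hn]; exact h3) with h4 | h4
  · rw [hn] at h4
    have hcop : Nat.Coprime 8 n := by
      have : Nat.Coprime 2 n := by rw [Nat.coprime_two_left, Nat.odd_iff]; exact h2
      exact (show (8 : ℕ) = 2 ^ 3 by norm_num) ▸ Nat.Coprime.pow_left 3 this
    exact Nat.le_of_dvd (by omega) (hcop.mul_dvd_of_dvd_of_dvd ((eight h).mul_left 3) h4)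
  · exact absurd (hn.symm.trans h4) h9

end Cfsg.Agent.H542.RecCom
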